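import Cfsg.Agent.Lib.PresentSL3.Pres

/-!
The matrices realising the presentation of `SL₃(F)` and the presentation itself.
-/

set_option autoImplicit false

namespace CfsgLib.PresentSL3

open Polynomial CfsgLib.PresentSL2
open CfsgLib.SteinbergSL (gensAll card_le_SL)

variable {F : Type*} [Field F]

/-- The rotation. -/
def cT : Matrix.SpecialLinearGroup (Fin 3) F :=
  ⟨!![0, 0, 1; 1, 0, 0; 0, 1, 0], by simp [Matrix.det_fin_three]⟩

/-- The reflection. -/
def sT : Matrix.SpecialLinearGroup (Fin 3) F :=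
  ⟨!![0, -1, 0; -1, 0, 0; 0, 0, -1], by simp [Matrix.det_fin_three]⟩

theorem coe_cT : ((cT : Matrix.SpecialLinearGroup (Fin 3) F) : Matrix (Fin 3) (Fin 3) F) =
    !![0, 0, 1; 1, 0, 0; 0, 1, 0] := rfl

theorem coe_sT : ((sT : Matrix.SpecialLinearGroup (Fin 3) F) : Matrix (Fin 3) (Fin 3) F) =
    !![0, -1, 0; -1, 0, 0; 0, 0, -1] := rfl

/-- The diagonal torus. -/
def dgT : Fˣ × Fˣ →* Matrix.SpecialLinearGroup (Fin 3) F :=
  MonoidHom.mk' (fun q => ⟨!![(q.1 : F), 0, 0; 0, (q.2 : F), 0; 0, 0, (((q.1 * q.2)⁻¹ : Fˣ) : F)],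
    by simp [Matrix.det_fin_three]; field_simp⟩) fun q q' => by
    apply Subtype.ext
    show _ = (!![(q.1 : F), 0, 0; 0, (q.2 : F), 0; 0, 0, (((q.1 * q.2)⁻¹ : Fˣ) : F)] : Matrix (Fin 3) (Fin 3) F) *
      !![(q'.1 : F), 0, 0; 0, (q'.2 : F), 0; 0, 0, (((q'.1 * q'.2)⁻¹ : Fˣ) : F)]
    ext i j
    fin_cases i <;> fin_cases j <;> simp [Matrix.mul_apply, Fin.sum_univ_three, mul_comm, mul_assoc, mul_left_comm]

theorem coe_dgT (q : Fˣ × Fˣ) : ((dgT q : Matrix.SpecialLinearGroup (Fin 3) F) : Matrix (Fin 3) (Fin 3) F) =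
    !![(q.1 : F), 0, 0; 0, (q.2 : F), 0; 0, 0, (((q.1 * q.2)⁻¹ : Fˣ) : F)] := rfl

/-- The root subgroup. -/
def eT : Multiplicative F →* Matrix.SpecialLinearGroup (Fin 3) F :=
  MonoidHom.mk' (fun y => Matrix.SpecialLinearGroup.transvection (show (0 : Fin 3) ≠ 1 by decide)
      (Multiplicative.toAdd y))
    fun y z => Subtype.ext (Matrix.transvection_mul_transvection_same _ _ (by decide) _ _).symm

theorem coe_eT (y : F) :
    ((eT (Multiplicative.ofAdd y) : Matrix.SpecialLinearGroup (Fin 3) F) : Matrix (Fin 3) (Fin 3) F) =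
      Matrix.transvection 0 1 y := rfl

theorem coe_eT' (y : F) :
    ((eT (Multiplicative.ofAdd y) : Matrix.SpecialLinearGroup (Fin 3) F) : Matrix (Fin 3) (Fin 3) F) =
      !![1, y, 0; 0, 1, 0; 0, 0, 1] := by
  rw [coe_eT]
  ext i j
  fin_cases i <;> fin_cases j <;> simp [Matrix.transvection, Matrix.single]

theorem dgT_eT (q : Fˣ × Fˣ) (y : F) :
    dgT q * eT (Multiplicative.ofAdd y) * (dgT q)⁻¹ = eT (Multiplicative.ofAdd ((q.1 : F) / q.2 * y)) := by
  rw [mul_inv_eq_iff_eq_mul]
  apply Subtype.ext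
  simp only [Matrix.SpecialLinearGroup.coe_mul, coe_dgT, coe_eT]
  have := q.2.ne_zero
  ext i j
  fin_cases i <;> fin_cases j <;>
    simp [Matrix.mul_apply, Fin.sum_univ_three, Matrix.transvection, Matrix.single] <;> field_simp

theorem sT_sq : (sT : Matrix.SpecialLinearGroup (Fin 3) F) * sT = 1 := by
  apply Subtype.ext
  simp only [Matrix.SpecialLinearGroup.coe_mul, coe_sT, Matrix.SpecialLinearGroup.coe_one]
  ext i j
  fin_cases i <;> fin_cases j <;> simp [Matrix.mul_apply, Fin.sum_univ_three]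

theorem sT_cT : (sT : Matrix.SpecialLinearGroup (Fin 3) F) * cT * sT = cT * cT := by
  apply Subtype.ext
  simp only [Matrix.SpecialLinearGroup.coe_mul, coe_sT, coe_cT]
  ext i j
  fin_cases i <;> fin_cases j <;> simp [Matrix.mul_apply, Fin.sum_univ_three]

theorem cT_cube : (cT : Matrix.SpecialLinearGroup (Fin 3) F) * cT * cT = 1 := by
  apply Subtype.ext
  simp only [Matrix.SpecialLinearGroup.coe_mul, coe_cT, Matrix.SpecialLinearGroup.coe_one]
  ext i j
  fin_cases i <;> fin_cases j <;> simp [Matrix.mul_apply, Fin.sum_univ_three]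

theorem sT_dgT (q : Fˣ × Fˣ) : sT * dgT q * sT = dgT (q.2, q.1) := by
  apply Subtype.ext
  simp only [Matrix.SpecialLinearGroup.coe_mul, coe_dgT, coe_sT]
  ext i j
  fin_cases i <;> fin_cases j <;> simp [Matrix.mul_apply, Fin.sum_univ_three, mul_comm]

theorem cT_dgT (q : Fˣ × Fˣ) : cT * dgT q * cT⁻¹ = dgT ((q.1 * q.2)⁻¹, q.1) := by
  rw [mul_inv_eq_iff_eq_mul]
  apply Subtype.ext
  simp only [Matrix.SpecialLinearGroup.coe_mul, coe_dgT, coe_cT]
  ext i j
  fin_cases i <;> fin_cases j <;> simp [Matrix.mul_apply, Fin.sum_univ_three]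

theorem sT_word :
    (sT : Matrix.SpecialLinearGroup (Fin 3) F) = eT (Multiplicative.ofAdd 1) *
      (sT * eT (Multiplicative.ofAdd (-1)) * sT) * eT (Multiplicative.ofAdd 1) * dgT (1, -1) := by
  apply Subtype.ext
  simp only [Matrix.SpecialLinearGroup.coe_mul, coe_dgT, coe_eT', coe_sT]
  ext i j
  fin_cases i <;> fin_cases j <;> simp [Matrix.mul_apply, Fin.sum_univ_three]

theorem rootW_eT {i j : Fin 3} (hij : i ≠ j) (y : F) :
    rootW sT cT i j (eT (Multiplicative.ofAdd y)) = Matrix.SpecialLinearGroup.transvection hij y := by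
  rw [rootW, mul_inv_eq_iff_eq_mul]
  apply Subtype.ext
  fin_cases i <;> fin_cases j <;> first | exact absurd rfl hij | skip
  all_goals
    simp only [wordW, Fin.zero_eta, Fin.mk_one, Fin.reduceFinMk, Matrix.SpecialLinearGroup.coe_mul,
      coe_eT]
    ext a b
    fin_cases a <;> fin_cases b <;>
      simp [Matrix.mul_apply, Fin.sum_univ_three, Matrix.transvection, Matrix.single, coe_sT, coe_cT, pow_two,
        Matrix.SpecialLinearGroup.transvection]

theorem lift_baseW {G : Type*} [Group G] (v : Fin 4 → G) (p k m : ℕ) (small : Bool) (M Pg : ℤ[X]) :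
    (baseW p k m small M Pg (FreeGroup.of 0) (FreeGroup.of 1) (FreeGroup.of 2) (FreeGroup.of 3)).map
      (FreeGroup.lift v) = baseW p k m small M Pg (v 0) (v 1) (v 2) (v 3) := by
  rw [map_baseW]
  simp

theorem lift_oddW {G : Type*} [Group G] (v : Fin 4 → G) :
    (oddW (FreeGroup.of (0 : Fin 4)) (FreeGroup.of 2) (FreeGroup.of 3)).map (FreeGroup.lift v) =
      oddW (v 0) (v 2) (v 3) := by
  rw [map_oddW]
  simp

theorem lift_cosetW {G : Type*} [Group G] (v : Fin 4 → G) (P : ℕ → ℤ[X]) :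
    ((List.range 3).map fun r =>
        cosetW (FreeGroup.of (0 : Fin 4)) (FreeGroup.of 1) (FreeGroup.of 2) (FreeGroup.of 3) (P r)).map
      (FreeGroup.lift v) = (List.range 3).map fun r => cosetW (v 0) (v 1) (v 2) (v 3) (P r) := by
  rw [List.map_map]
  refine List.map_congr_left fun r _ => ?_
  simp [map_cosetW]

theorem coe_transvectionT {i j : Fin 3} (hij : i ≠ j) (y : F) :
    ((Matrix.SpecialLinearGroup.transvection hij y : Matrix.SpecialLinearGroup (Fin 3) F) :
      Matrix (Fin 3) (Fin 3) F) = Matrix.transvection i j y := rfl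

theorem aeval_polyW {p : ℕ} {x : F} (D : PolyData p x) (y : F) :
    aeval x (D.surj y).choose = y := (D.surj y).choose_spec

theorem presentation_sl_three [Fintype F] :
    ∃ rels : Finset (FreeGroup (Fin 4)), rels.card ≤ 14 ∧
      Nonempty (PresentedGroup (↑rels : Set (FreeGroup (Fin 4))) ≃* Matrix.SpecialLinearGroup (Fin 3) F) := by
  classical
  obtain ⟨p, hp⟩ := CharP.exists F
  haveI : Fact p.Prime := ⟨CharP.char_is_prime F p⟩
  obtain ⟨e, -, hF⟩ := FiniteField.card F p
  obtain ⟨w, hgen⟩ : ∃ w : Fˣ, ∀ x : Fˣ, x ∈ Subgroup.zpowers w := IsCyclic.exists_generator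
  obtain ⟨D⟩ := exists_D hF hgen
  have hw : (w : F) ≠ 0 := w.ne_zero
  set small : Bool := decide ((w : F)⁻¹ + 1 = 0) with hsmall
  obtain ⟨k, hk⟩ : ∃ k : ℕ, small = false → ((w : F)⁻¹) ^ k = 1 + (w : F)⁻¹ := by
    by_cases h : (w : F)⁻¹ + 1 = 0
    · exact ⟨0, fun e => by simp [hsmall, h] at e⟩
    · obtain ⟨k, hk⟩ := exists_pow_eq hgen (Units.mk0 _ h)⁻¹
      refine ⟨k, fun _ => ?_⟩
      have := congrArg Units.val hk
      simp only [Units.val_pow_eq_pow_val, Units.val_inv_eq_inv_val, Units.val_mk0] at this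
      rw [inv_pow, this, inv_inv, add_comm]
  obtain ⟨m, hm⟩ := exists_pow_eq hgen (-1)
  set Pg := (D.surj ((w : F) * w)).choose with hPgd
  have hPg : aeval (w : F)⁻¹ Pg = (w : F) * w := aeval_polyW D _
  -- the target
  set u₀ : Matrix.SpecialLinearGroup (Fin 3) F := eT (Multiplicative.ofAdd 1) with hu₀
  set h₀ : Matrix.SpecialLinearGroup (Fin 3) F := dgT (w, w⁻¹) with hh₀
  have ha₀ : cT * h₀ * cT⁻¹ = dgT (1, w) := by rw [hh₀, cT_dgT]; simp
  have hb₀ : (cT : Matrix.SpecialLinearGroup (Fin 3) F)⁻¹ * h₀ * cT = dgT (w⁻¹, 1) := by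
    rw [show (cT : Matrix.SpecialLinearGroup (Fin 3) F)⁻¹ * h₀ * cT = cT * (cT * h₀ * cT⁻¹) * cT⁻¹ by
      have e : (cT : Matrix.SpecialLinearGroup (Fin 3) F)⁻¹ = cT * cT :=
        inv_eq_of_mul_eq_one_right (by rw [← mul_assoc, cT_cube])
      conv_rhs => rw [show cT * (cT * h₀ * cT⁻¹) * cT⁻¹ = (cT * cT) * h₀ * (cT * cT)⁻¹ by group]
      rw [← e, inv_inv], ha₀, cT_dgT]
    simp
  have hevT : ∀ P, ev (cT * h₀ * cT⁻¹) u₀ P = eT (Multiplicative.ofAdd (aeval (w : F)⁻¹ P)) :=
    ev_of_field_hom eT rfl fun y => by rw [ha₀, dgT_eT]; simp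
  have hcjT : cj (cT * h₀ * cT⁻¹) u₀ 1 = eT (Multiplicative.ofAdd ((w : F)⁻¹)) := by
    rw [cj, pow_one, ha₀, hu₀, dgT_eT]
    simp
  have hbase : ∀ z ∈ baseW p k m small D.M Pg u₀ h₀ sT cT, z = 1 := by
    have hsinv : (sT : Matrix.SpecialLinearGroup (Fin 3) F)⁻¹ = sT := inv_eq_of_mul_eq_one_right sT_sq
    simp only [baseW, List.forall_mem_cons, List.not_mem_nil, false_imp_iff, implies_true, and_true,
      mul_inv_eq_one]
    refine ⟨?_, ?_, ?_, ?_, sT_sq, sT_cT, ?_, ?_, ?_, ?_, ?_⟩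
    · rw [hu₀, ← map_pow, ← ofAdd_nsmul]; simp
    · rw [hcjT, hu₀]
      exact ((Commute.all _ _).map eT).eq
    · rw [hcjT, hu₀]
      cases hs : small with
      | true =>
        rw [hsmall, decide_eq_true_iff] at hs
        rw [if_pos rfl, ← map_mul, ← ofAdd_add, hs, ofAdd_zero, map_one]
      | false =>
        rw [if_neg (by simp), ha₀, ← map_pow dgT, dgT_eT, ← map_mul, ← ofAdd_add, mul_inv_eq_one]
        have := hk hs
        simp only [Prod.pow_fst, Prod.pow_snd, one_pow, Units.val_one, Units.val_pow_eq_pow_val]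
        rw [one_div, ← inv_pow, this, mul_one]
    · rw [hevT, D.root, ofAdd_zero, map_one]
    · rw [inv_mul_eq_one, ha₀, ← map_pow dgT, hsinv, hu₀, ← map_inv (eT (F := F)), ← ofAdd_neg,
        show ((1 : Fˣ), w) ^ m = (1, -1) by rw [Prod.pow_mk, one_pow, hm]]
      exact sT_word
    · rw [ha₀, hh₀, ← map_mul, ← map_mul, mul_comm]
    · rw [ha₀, hb₀, hh₀, ← map_mul, ← map_mul]
      simp [Prod.mk_one_one]
    · rw [hevT, hPg, hh₀, hu₀, dgT_eT]
      congr 2
      simp
    · rw [hh₀, sT_dgT, ← map_mul]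
      simp [Prod.mk_one_one]
  obtain ⟨R₀, hR₀w, hR₀h, hR₀s, hR₀c, hR₀u, -, -, -⟩ := exists_frame hgen D hPg hbase
  have hroot : ∀ (i j : Fin 3) (hij : i ≠ j) (y : F),
      rootW sT cT i j (eT (Multiplicative.ofAdd y)) = Matrix.SpecialLinearGroup.transvection hij y :=
    fun i j hij y => rootW_eT hij y
  have hgenT : Subgroup.closure (Set.range ![u₀, h₀, sT, cT]) = ⊤ := by
    refine CfsgLib.Linear.SL_eq_top_of_transvection_mem _ fun i j hij y => ?_
    set H := Subgroup.closure (Set.range ![u₀, h₀, sT, cT])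
    have hm : ∀ n, ![u₀, h₀, sT, cT] n ∈ H := fun n => Subgroup.subset_closure ⟨n, rfl⟩
    have hu : u₀ ∈ H := hm 0
    have hs : sT ∈ H := hm 2
    have hc : cT ∈ H := hm 3
    have hh : h₀ ∈ H := hm 1
    have he : eT (Multiplicative.ofAdd y) ∈ H := by
      rw [← aeval_polyW D y, ← hevT]
      refine Subgroup.list_prod_mem _ fun z hz => ?_
      obtain ⟨l, -, rfl⟩ := List.mem_map.1 hz
      have ha := H.mul_mem (H.mul_mem hc hh) (H.inv_mem hc)
      exact H.zpow_mem (H.mul_mem (H.mul_mem (H.pow_mem ha _) hu) (H.inv_mem (H.pow_mem ha _))) _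
    rw [← hroot i j hij y]
    have hW : wordW cT sT i j ∈ H := by
      unfold wordW
      split_ifs
      exacts [H.pow_mem hc _, H.mul_mem (H.pow_mem hc _) hs]
    exact H.mul_mem (H.mul_mem hW he) (H.inv_mem hW)
  set vF : Fin 4 → FreeGroup (Fin 4) := FreeGroup.of with hvF
  set base := baseW p k m small D.M Pg (vF 0) (vF 1) (vF 2) (vF 3) with hbaseF
  have hbase_len : base.length = 11 := by simp [hbaseF, baseW]
  have hcore : ∀ (G : Type) [Group G] (v : Fin 4 → G), Subgroup.closure (Set.range v) = ⊤ →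
      (∀ z ∈ baseW p k m small D.M Pg (v 0) (v 1) (v 2) (v 3), z = 1) →
      ∃ R : Frame F G, R.w = w ∧ R.h = v 1 ∧ R.s = v 2 ∧ R.c = v 3 ∧
        R.Φ (Multiplicative.ofAdd 1) = v 0 ∧
        Subgroup.closure (gensAll R.x) = ⊤ := by
    intro G _ v hv hb
    obtain ⟨R, e1, e2, e3, e4, e5, hcm, h012, hs⟩ := exists_frame hgen D hPg hb
    refine ⟨R, e1, e2, e3, e4, e5, R.closure_roots ?_ ?_ m ?_ ?_⟩
    · rw [e2, e4]; exact hcm
    · rw [e2, e4]; exact h012
    · rw [e3, e4, e2]; exact hs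
    · rw [R.x_zero_one, e5, e2, e3, e4, ← hv]
      congr 1
      ext z
      simp [Set.mem_range, Fin.exists_fin_succ, eq_comm]
  have hrootR : ∀ {G : Type} [Group G] (R : Frame F G) (i j : Fin 3) (y : F),
      R.x i j y = rootW R.s R.c i j (R.Φ (Multiplicative.ofAdd y)) := fun R i j y => rfl
  by_cases hp2 : p = 2
  · subst hp2
    set Pr : ℕ → ℤ[X] := fun r => (D.surj ((w : F) ^ r)).choose with hPr
    have hPr' : ∀ r, aeval (w : F)⁻¹ (Pr r) = (w : F) ^ r := fun r => aeval_polyW D _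
    set L := base ++ (List.range 3).map (fun r => cosetW (vF 0) (vF 1) (vF 2) (vF 3) (Pr r)) with hL
    obtain ⟨rels, hc, hiso⟩ := presented_iso_four ![u₀, h₀, sT, cT] hgenT L (by
      refine fun z hz => ?_
      have hz' := List.mem_map_of_mem (f := FreeGroup.lift ![u₀, h₀, sT, cT]) hz
      rw [hL, List.map_append, hbaseF, hvF, lift_baseW, lift_cosetW, List.mem_append] at hz'
      rcases hz' with hz' | hz'
      · exact hbase _ (by simpa using hz')
      · obtain ⟨r, -, hr⟩ := List.mem_map.1 hz'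
        rw [← hr]
        simp only [cosetW, Matrix.cons_val, mul_inv_eq_one, hevT, hPr']
        rw [hroot 1 2 (by decide), hroot 0 2 (by decide), hu₀]
        apply Subtype.ext
        simp only [Matrix.SpecialLinearGroup.coe_mul, coe_eT, coe_transvectionT]
        ext i j
        fin_cases i <;> fin_cases j <;>
          simp [Matrix.mul_apply, Fin.sum_univ_three, Matrix.transvection, Matrix.single]) (fun G _ v hv hrel => by
      have hall : ∀ z ∈ L.map (FreeGroup.lift v), z = 1 := by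
        intro z hz
        obtain ⟨r, hr, rfl⟩ := List.mem_map.1 hz
        exact hrel r hr
      rw [hL, List.map_append, hbaseF, hvF, lift_baseW, lift_cosetW] at hall
      obtain ⟨R, e1, e2, e3, e4, e5, hcl⟩ := hcore G v hv fun z hz => hall z (List.mem_append_left _ hz)
      have hev : ∀ P, ev (v 3 * v 1 * (v 3)⁻¹) (v 0) P =
          R.Φ (Multiplicative.ofAdd (aeval (w : F)⁻¹ P)) :=
        ev_of_field_hom R.Φ e5 fun y => by
          have := R.act1 y
          rwa [e1, e2, e4] at this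
      have hc1 : ∀ a b, R.Comm1 a b := R.comm1_of_cosets fun r hr => by
        have := hall _ (List.mem_append_right _ (List.mem_map.2 ⟨r, List.mem_range.2 hr, rfl⟩))
        simp only [cosetW, mul_inv_eq_one, hev, hPr'] at this
        show R.x 0 1 1 * R.x 1 2 _ = R.x 0 2 (1 * _) * R.x 1 2 _ * R.x 0 1 1
        rw [one_mul, R.x_zero_one, e5, hrootR R, hrootR R, e1, e3, e4]
        exact this
      have h1 := R.comm1_all hc1
      have h2 : ∀ y : F, y + y = 0 := CharTwo.add_self_eq_zero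
      have h0 := R.comm0_of_char_two h2 h1
      have hrow : ∀ a b, Commute (R.x 0 1 a) (R.x 0 2 b) := fun a b => by
        by_cases ha : a = 0
        · rw [ha, R.x_zero]; exact Commute.one_left _
        have := (h0 0 1 2 (by decide) (by decide) (by decide) a (b / a)).1
        rwa [mul_div_cancel₀ _ ha] at this
      have hcol : ∀ a b, Commute (R.x 0 1 a) (R.x 2 1 b) := fun a b => by
        by_cases hb : b = 0
        · rw [hb, R.x_zero]; exact Commute.one_right _
        have := (h0 0 2 1 (by decide) (by decide) (by decide) (a / b) b).2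
        rw [div_mul_cancel₀ _ hb] at this
        exact this.symm
      exact card_le_SL (by norm_num) (R.sys (R.comm0_all hrow hcol) h1) hcl)
    refine ⟨rels, hc.trans ?_, hiso⟩
    simp [hL, hbase_len]
  · set L := base ++ oddW (vF 0) (vF 2) (vF 3) with hL
    obtain ⟨rels, hc, hiso⟩ := presented_iso_four ![u₀, h₀, sT, cT] hgenT L (by
      refine fun z hz => ?_
      have hz' := List.mem_map_of_mem (f := FreeGroup.lift ![u₀, h₀, sT, cT]) hz
      rw [hL, List.map_append, hbaseF, hvF, lift_baseW, lift_oddW, List.mem_append] at hz'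
      rcases hz' with hz' | hz'
      · exact hbase _ (by simpa using hz')
      · revert hz'
        generalize FreeGroup.lift ![u₀, h₀, sT, cT] z = g
        revert g
        simp only [oddW, List.forall_mem_cons, List.not_mem_nil, false_imp_iff, implies_true, and_true,
          Matrix.cons_val, mul_inv_eq_one, hu₀]
        refine ⟨?_, ?_, ?_⟩
        all_goals
          simp only [hroot _ _ (show (0 : Fin 3) ≠ 2 by decide), hroot _ _ (show (2 : Fin 3) ≠ 1 by decide),
            hroot _ _ (show (1 : Fin 3) ≠ 2 by decide)]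
          apply Subtype.ext
          simp only [Matrix.SpecialLinearGroup.coe_mul, coe_eT, coe_transvectionT]
          ext i j
          fin_cases i <;> fin_cases j <;>
            simp [Matrix.mul_apply, Fin.sum_univ_three, Matrix.transvection, Matrix.single]) (fun G _ v hv hrel => by
      have hall : ∀ z ∈ L.map (FreeGroup.lift v), z = 1 := by
        intro z hz
        obtain ⟨r, hr, rfl⟩ := List.mem_map.1 hz
        exact hrel r hr
      rw [hL, List.map_append, hbaseF, hvF, lift_baseW, lift_oddW] at hall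
      obtain ⟨R, e1, e2, e3, e4, e5, hcl⟩ := hcore G v hv fun z hz => hall z (List.mem_append_left _ hz)
      have hodd : ∀ z ∈ oddW (v 0) (v 2) (v 3), z = 1 := fun z hz => hall z (List.mem_append_right _ hz)
      simp only [oddW, List.forall_mem_cons, List.not_mem_nil, false_imp_iff, implies_true, and_true,
        mul_inv_eq_one] at hodd
      rw [← e5, ← e3, ← e4] at hodd
      have hspan := cubeSpan hp2 hF hgen
      have hrow := R.row01 hspan (by
        rw [R.x_zero_one]
        exact hodd.1)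
      have hcol := R.col01 hspan (by
        rw [R.x_zero_one]
        exact hodd.2.1)
      have h0 := R.comm0_all hrow hcol
      have hc1 := R.comm1_of_span hspan (h0 1 2 0 2 (by decide) (by decide) (by decide) (by decide)) (by
        show R.x 0 1 1 * R.x 1 2 1 = R.x 0 2 (1 * 1) * R.x 1 2 1 * R.x 0 1 1
        rw [one_mul]
        rw [R.x_zero_one]
        exact hodd.2.2)
      exact card_le_SL (by norm_num) (R.sys h0 (R.comm1_all hc1)) hcl)
    refine ⟨rels, hc.trans ?_, hiso⟩
    simp [hL, hbase_len, oddW]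

end CfsgLib.PresentSL3
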