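import Cfsg.Agent.Lib.SteinbergSL.Count

/-!
A root system of type `A₂` built from one root subgroup, a torus element, and `S₃`.
-/

set_option autoImplicit false

namespace CfsgLib.PresentSL3

open CfsgLib.SteinbergSL (Sys gensAll)

variable {F : Type*} [Field F] {G : Type*} [Group G]

/-- The conjugating word of a root. -/
def wordW (c s : G) (i j : Fin 3) : G := if j = i + 1 then c ^ (i : ℕ) else c ^ (j : ℕ) * s

/-- One root subgroup with a torus element and generators of `S₃` acting. -/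
structure Frame (F : Type*) [Field F] (G : Type*) [Group G] where
  /-- generator of the multiplicative group -/
  w : Fˣ
  gen : ∀ x : Fˣ, ∃ n : ℕ, w ^ n = x
  /-- the torus element -/
  h : G
  /-- the reflection -/
  s : G
  /-- the rotation -/
  c : G
  /-- the root subgroup -/
  Φ : Multiplicative F →* G
  ss : s * s = 1
  ccc : c ^ 3 = 1
  scs : s * c * s = c⁻¹
  shs : s * h * s = h⁻¹
  act0 : ∀ y, h * Φ (Multiplicative.ofAdd y) * h⁻¹ = Φ (Multiplicative.ofAdd ((w : F) * w * y))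
  act1 : ∀ y, c * h * c⁻¹ * Φ (Multiplicative.ofAdd y) * (c * h * c⁻¹)⁻¹ =
    Φ (Multiplicative.ofAdd ((w : F)⁻¹ * y))
  act2 : ∀ y, c⁻¹ * h * c * Φ (Multiplicative.ofAdd y) * (c⁻¹ * h * c)⁻¹ =
    Φ (Multiplicative.ofAdd ((w : F)⁻¹ * y))

namespace Frame

variable (R : Frame F G)

/-- The root maps. -/
def x (i j : Fin 3) (y : F) : G :=
  wordW R.c R.s i j * R.Φ (Multiplicative.ofAdd y) * (wordW R.c R.s i j)⁻¹

theorem x_add (i j : Fin 3) (a b : F) : R.x i j a * R.x i j b = R.x i j (a + b) := by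
  simp only [x, ofAdd_add, map_mul]
  group

theorem x_zero (i j : Fin 3) : R.x i j 0 = 1 := by simp [x]

theorem x_inv (i j : Fin 3) (a : F) : (R.x i j a)⁻¹ = R.x i j (-a) := by
  rw [inv_eq_iff_mul_eq_one, x_add, add_neg_cancel, x_zero]

theorem x_zero_one (y : F) : R.x 0 1 y = R.Φ (Multiplicative.ofAdd y) := by simp [x, wordW]

theorem s_inv : R.s⁻¹ = R.s := inv_eq_of_mul_eq_one_right R.ss

theorem cpow_add (a b : Fin 3) : R.c ^ ((a + b : Fin 3) : ℕ) = R.c ^ (a : ℕ) * R.c ^ (b : ℕ) := by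
  rw [← pow_add, Fin.val_add, ← pow_eq_pow_mod _ R.ccc]

theorem cpow_neg (a : Fin 3) : R.c ^ ((-a : Fin 3) : ℕ) = (R.c ^ (a : ℕ))⁻¹ := by
  rw [eq_inv_iff_mul_eq_one, ← cpow_add, neg_add_cancel, Fin.val_zero, pow_zero]

theorem s_cpow (a : Fin 3) : R.s * R.c ^ (a : ℕ) * R.s = R.c ^ ((-a : Fin 3) : ℕ) := by
  rw [R.cpow_neg, ← inv_pow, ← R.scs]
  conv_lhs => rw [show R.s * R.c ^ (a : ℕ) * R.s = R.s * R.c ^ (a : ℕ) * R.s⁻¹ by rw [R.s_inv]]
  rw [← conj_pow, R.s_inv]

theorem conj_c (i j : Fin 3) (hij : i ≠ j) (y : F) :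
    R.c * R.x i j y * R.c⁻¹ = R.x (i + 1) (j + 1) y := by
  have key : R.c * wordW R.c R.s i j = wordW R.c R.s (i + 1) (j + 1) := by
    have h1 : R.c = R.c ^ ((1 : Fin 3) : ℕ) := (pow_one _).symm
    unfold wordW
    by_cases h : j = i + 1
    · rw [if_pos h, if_pos (by rw [h]), cpow_add, ← h1]
      exact (Commute.refl R.c).pow_right _
    · rw [if_neg h, if_neg (fun e => h (add_right_cancel e)), cpow_add, ← h1, ← mul_assoc]
      congr 1
      exact (Commute.refl R.c).pow_right _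
  simp only [x]
  rw [← key]
  group

theorem conj_s (i j : Fin 3) (hij : i ≠ j) (y : F) :
    R.s * R.x i j y * R.s⁻¹ = R.x (1 - i) (1 - j) y := by
  have key : R.s * wordW R.c R.s i j = wordW R.c R.s (1 - i) (1 - j) := by
    unfold wordW
    by_cases h : j = i + 1
    · have h2 : ¬ (1 - j = 1 - i + 1) := by subst h; revert i; decide
      rw [if_pos h, if_neg h2, show 1 - j = -i by subst h; revert i; decide, ← R.s_cpow i, mul_assoc,
        R.ss, mul_one]
    · have h2 : 1 - j = 1 - i + 1 := by revert i j; decide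
      rw [if_neg h, if_pos h2, show 1 - i = -j by revert i j; decide, ← R.s_cpow j, mul_assoc]
  simp only [x]
  rw [← key]
  group

theorem conj_cpow (a i j : Fin 3) (hij : i ≠ j) (y : F) :
    R.c ^ (a : ℕ) * R.x i j y * (R.c ^ (a : ℕ))⁻¹ = R.x (i + a) (j + a) y := by
  fin_cases a
  · simp
  · simpa using R.conj_c i j hij y
  · show R.c ^ 2 * R.x i j y * (R.c ^ 2)⁻¹ = R.x (i + 2) (j + 2) y
    have h := R.conj_c (i + 1) (j + 1) (fun e => hij (add_right_cancel e)) y
    rw [← R.conj_c i j hij, show i + 1 + 1 = i + 2 by rw [add_assoc]; rfl,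
      show j + 1 + 1 = j + 2 by rw [add_assoc]; rfl] at h
    rw [← h, pow_two]
    group

/-- An element acting like a diagonal matrix on the root maps. -/
def IsScal (g : G) (d : Fin 3 → Fˣ) : Prop :=
  ∀ i j, i ≠ j → ∀ y, g * R.x i j y * g⁻¹ = R.x i j ((d i : F) / (d j : F) * y)

theorem IsScal.mul {g g' : G} {d d' : Fin 3 → Fˣ} (h : R.IsScal g d) (h' : R.IsScal g' d') :
    R.IsScal (g * g') (d * d') := by
  intro i j hij y
  have hd := (d j).ne_zero
  have hd' := (d' j).ne_zero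
  rw [show g * g' * R.x i j y * (g * g')⁻¹ = g * (g' * R.x i j y * g'⁻¹) * g⁻¹ by group, h' i j hij,
    h i j hij]
  congr 1
  simp only [Pi.mul_apply, Units.val_mul]
  field_simp

theorem IsScal.pow {g : G} {d : Fin 3 → Fˣ} (h : R.IsScal g d) (n : ℕ) : R.IsScal (g ^ n) (d ^ n) := by
  induction n with
  | zero => intro i j _ y; simp
  | succ n ih => rw [pow_succ, pow_succ]; exact ih.mul R h

theorem conj_inv_act {g : G} {l : F} (hl : l ≠ 0)
    (h : ∀ y, g * R.Φ (Multiplicative.ofAdd y) * g⁻¹ = R.Φ (Multiplicative.ofAdd (l * y))) (y : F) :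
    g⁻¹ * R.Φ (Multiplicative.ofAdd y) * g⁻¹⁻¹ = R.Φ (Multiplicative.ofAdd (l⁻¹ * y)) := by
  have := h (l⁻¹ * y)
  rw [← mul_assoc, mul_inv_cancel₀ hl, one_mul] at this
  rw [← this]
  group

theorem conj_word {g : G} {l : F} (W : G)
    (h : ∀ y, W⁻¹ * g * W * R.Φ (Multiplicative.ofAdd y) * (W⁻¹ * g * W)⁻¹ =
      R.Φ (Multiplicative.ofAdd (l * y))) (y : F) :
    g * (W * R.Φ (Multiplicative.ofAdd y) * W⁻¹) * g⁻¹ =
      W * R.Φ (Multiplicative.ofAdd (l * y)) * W⁻¹ := by
  rw [← h]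
  group

theorem ss_assoc (z : G) : R.s * (R.s * z) = z := by rw [← mul_assoc, R.ss, one_mul]

theorem conj_ds (d : G) :
    (d * R.s)⁻¹ * R.h * (d * R.s) = ((R.s * d * R.s)⁻¹ * R.h * (R.s * d * R.s))⁻¹ := by
  rw [mul_inv_rev ((R.s * d * R.s)⁻¹ * R.h), mul_inv_rev ((R.s * d * R.s)⁻¹), ← R.shs]
  simp only [mul_inv_rev, mul_assoc, inv_inv, R.s_inv, R.ss_assoc]

theorem scal_h : R.IsScal R.h ![R.w, R.w⁻¹, 1] := by
  have hw : (R.w : F) ≠ 0 := R.w.ne_zero
  have hw2 := R.conj_inv_act (mul_ne_zero hw hw) R.act0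
  have hi1 := R.conj_inv_act (inv_ne_zero hw) R.act1
  have hi2 := R.conj_inv_act (inv_ne_zero hw) R.act2
  have hc2 : R.c ^ 2 = R.c⁻¹ := eq_inv_of_mul_eq_one_left (by rw [← pow_succ, R.ccc])
  have sc2 : R.s * R.c ^ 2 * R.s = R.c := by
    have e := R.s_cpow 2
    rw [show (-2 : Fin 3) = 1 by decide] at e
    simpa using e
  intro i j hij y
  fin_cases i <;> fin_cases j <;> first | exact absurd rfl hij | skip
  all_goals
    unfold x
    refine R.conj_word _ (fun z => ?_) y
  · simpa [wordW] using R.act0 z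
  · simp only [Fin.zero_eta, Fin.mk_one, Fin.reduceFinMk]
    rw [show wordW R.c R.s 0 2 = R.c ^ 2 * R.s from rfl, R.conj_ds, sc2, hi2 z]
    simp
  · simp only [Fin.zero_eta, Fin.mk_one, Fin.reduceFinMk]
    rw [show wordW R.c R.s 1 0 = R.c ^ 0 * R.s from rfl, R.conj_ds, pow_zero, mul_one, R.ss, inv_one,
      one_mul, mul_one, hw2 z]
    simp
    congr 2
    field_simp
  · simpa [wordW, mul_assoc] using R.act2 z
  · simpa [wordW, hc2, mul_assoc] using R.act1 z
  · simp only [Fin.zero_eta, Fin.mk_one, Fin.reduceFinMk]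
    rw [show wordW R.c R.s 2 1 = R.c ^ 1 * R.s from rfl, R.conj_ds, pow_one, R.scs, inv_inv, hi1 z]
    simp

theorem scal_a : R.IsScal (R.c * R.h * R.c⁻¹) ![1, R.w, R.w⁻¹] := by
  intro i j hij y
  have h' : i - 1 ≠ j - 1 := fun e => hij (sub_left_inj.1 e)
  have e := R.conj_c (i - 1) (j - 1) h' y
  have e' := R.conj_c (i - 1) (j - 1) h' ((![R.w, R.w⁻¹, 1] (i - 1) : F) / (![R.w, R.w⁻¹, 1] (j - 1) : F) * y)
  rw [sub_add_cancel, sub_add_cancel] at e e'
  rw [← e, show R.c * R.h * R.c⁻¹ * (R.c * R.x (i - 1) (j - 1) y * R.c⁻¹) * (R.c * R.h * R.c⁻¹)⁻¹ =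
    R.c * (R.h * R.x (i - 1) (j - 1) y * R.h⁻¹) * R.c⁻¹ by group, R.scal_h _ _ h', e']
  congr 1
  fin_cases i <;> fin_cases j <;> first | rfl | simp

theorem exists_scal (a b : Fˣ) : ∃ g, R.IsScal g ![a, b, (a * b)⁻¹] := by
  obtain ⟨m, hm⟩ := R.gen a
  obtain ⟨n, hn⟩ := R.gen (a * b)
  refine ⟨R.h ^ m * (R.c * R.h * R.c⁻¹) ^ n, ?_⟩
  have := (R.scal_h.pow R m).mul R (R.scal_a.pow R n)
  convert this using 1
  funext i
  fin_cases i <;> simp [hm, hn]

theorem exists_scal' (σ b : Fˣ) : ∃ g, R.IsScal g ![σ * b, b, (σ * b * b)⁻¹] := R.exists_scal _ b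

/-- Any additively closed set containing the signed cubes is everything. -/
def CubeSpan (F : Type*) [Field F] : Prop :=
  ∀ S : Set F, 0 ∈ S → (∀ a ∈ S, ∀ b ∈ S, a + b ∈ S) → (∀ b : Fˣ, (b : F) ^ 3 ∈ S) → S = Set.univ

theorem cube_extend (hF : CubeSpan F) {P : F → Prop} (h0 : P 0) (hadd : ∀ a b, P a → P b → P (a + b))
    {z : F} (hz : z ≠ 0) (h : ∀ b : Fˣ, P (z * (b : F) ^ 3)) (v : F) : P v := by
  have := hF {y | P (z * y)} (by simpa using h0)
    (fun a ha b hb => by simpa [mul_add] using hadd _ _ ha hb) h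
  have hv : v / z ∈ {y | P (z * y)} := this ▸ Set.mem_univ _
  simpa [mul_div_cancel₀ _ hz] using hv

theorem row01 (hF : CubeSpan F) (h : Commute (R.x 0 1 1) (R.x 0 2 1)) (a v : F) :
    Commute (R.x 0 1 a) (R.x 0 2 v) := by
  by_cases ha : a = 0
  · rw [ha, x_zero]; exact Commute.one_left _
  refine cube_extend hF (P := fun v => Commute (R.x 0 1 a) (R.x 0 2 v)) (z := a * a)
    (by rw [x_zero]; exact Commute.one_right _)
    (fun p q hp hq => by rw [← x_add]; exact hp.mul_right hq) (mul_ne_zero ha ha) (fun b => ?_) v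
  obtain ⟨g, hg⟩ := R.exists_scal' (Units.mk0 a ha) b
  have hb := b.ne_zero
  have h2 := h.map (MulAut.conj g).toMonoidHom
  change Commute (g * _ * g⁻¹) (g * _ * g⁻¹) at h2
  rw [hg 0 1 (by decide), hg 0 2 (by decide)] at h2
  convert h2 using 2 <;> simp <;> field_simp

theorem col01 (hF : CubeSpan F) (h : Commute (R.x 0 1 1) (R.x 2 1 1)) (a v : F) :
    Commute (R.x 0 1 a) (R.x 2 1 v) := by
  by_cases ha : a = 0
  · rw [ha, x_zero]; exact Commute.one_left _
  refine cube_extend hF (P := fun v => Commute (R.x 0 1 a) (R.x 2 1 v)) (z := a⁻¹)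
    (by rw [x_zero]; exact Commute.one_right _)
    (fun p q hp hq => by rw [← x_add]; exact hp.mul_right hq) (inv_ne_zero ha) (fun b => ?_) v
  obtain ⟨g, hg⟩ := R.exists_scal' (Units.mk0 a ha) b⁻¹
  have hb := b.ne_zero
  have h2 := h.map (MulAut.conj g).toMonoidHom
  change Commute (g * _ * g⁻¹) (g * _ * g⁻¹) at h2
  rw [hg 0 1 (by decide), hg 2 1 (by decide)] at h2
  convert h2 using 2 <;> simp <;> field_simp

/-- The commutator relation for the first orbit at given arguments. -/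
def Comm1 (a v : F) : Prop := R.x 0 1 a * R.x 1 2 v = R.x 0 2 (a * v) * R.x 1 2 v * R.x 0 1 a

theorem comm1_scal {a v : F} (h : R.Comm1 a v) (σ b : Fˣ) :
    R.Comm1 ((σ : F) * a) ((σ : F) * (b : F) ^ 3 * v) := by
  obtain ⟨g, hg⟩ := R.exists_scal' σ b
  have hb := b.ne_zero
  have hσ := σ.ne_zero
  unfold Comm1 at h ⊢
  have h2 := congrArg (MulAut.conj g) h
  simp only [map_mul, MulAut.conj_apply] at h2
  rw [hg 0 1 (by decide), hg 0 2 (by decide), hg 1 2 (by decide)] at h2
  convert h2 using 4 <;> simp <;> field_simp <;> simp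

theorem comm1_of_span (hF : CubeSpan F) (hcol : ∀ a v, Commute (R.x 1 2 a) (R.x 0 2 v))
    (h : R.Comm1 1 1) (a v : F) : R.Comm1 a v := by
  by_cases ha : a = 0
  · simp [Comm1, ha, x_zero]
  refine cube_extend hF (P := fun v => R.Comm1 a v) (z := a)
    (by simp [Comm1, x_zero]) (fun p q hp hq => ?_) ha (fun b => ?_) v
  · unfold Comm1 at hp hq ⊢
    rw [← x_add R 1 2, ← mul_assoc, hp, mul_assoc, hq, mul_add, ← x_add R 0 2]
    calc R.x 0 2 (a * p) * R.x 1 2 p * (R.x 0 2 (a * q) * R.x 1 2 q * R.x 0 1 a)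
        = R.x 0 2 (a * p) * (R.x 1 2 p * R.x 0 2 (a * q)) * R.x 1 2 q * R.x 0 1 a := by group
      _ = _ := by rw [(hcol p (a * q)).eq]; group
  · simpa using R.comm1_scal h (Units.mk0 a ha) b

theorem comm1_of_cosets (h : ∀ r, r < 3 → R.Comm1 1 ((R.w : F) ^ r)) (a v : F) : R.Comm1 a v := by
  by_cases ha : a = 0
  · simp [Comm1, ha, x_zero]
  by_cases hv : v = 0
  · simp [Comm1, hv, x_zero]
  obtain ⟨n, hn⟩ := R.gen (Units.mk0 (v / a) (div_ne_zero hv ha))
  have := R.comm1_scal (h (n % 3) (Nat.mod_lt _ (by norm_num))) (Units.mk0 a ha) (R.w ^ (n / 3))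
  rw [Units.val_mk0, mul_one, Units.val_pow_eq_pow_val, mul_assoc, ← pow_mul, ← pow_add,
    show n / 3 * 3 + n % 3 = n by omega] at this
  have hn' := congrArg Units.val hn
  rw [Units.val_pow_eq_pow_val, Units.val_mk0] at hn'
  rwa [hn', mul_div_cancel₀ _ ha] at this

theorem comm1_all (h : ∀ a v, R.Comm1 a v) : ∀ i j k : Fin 3, i ≠ j → j ≠ k → i ≠ k → ∀ a v,
    R.x i j a * R.x j k v = R.x i k (a * v) * R.x j k v * R.x i j a := by
  intro i j k hij hjk hik a v
  have base : ∀ t : Fin 3, R.x t (t + 1) a * R.x (t + 1) (t + 2) v =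
      R.x t (t + 2) (a * v) * R.x (t + 1) (t + 2) v * R.x t (t + 1) a := by
    intro t
    have h2 := congrArg (MulAut.conj (R.c ^ (t : ℕ))) (h a v)
    simp only [map_mul, MulAut.conj_apply] at h2
    rw [R.conj_cpow t 0 1 (by decide), R.conj_cpow t 0 2 (by decide), R.conj_cpow t 1 2 (by decide)] at h2
    rwa [zero_add, add_comm 1 t, add_comm 2 t] at h2
  by_cases hj : j = i + 1
  · obtain rfl : k = i + 2 := by revert i j k; decide
    subst hj
    exact base i
  · have h2 := congrArg (MulAut.conj R.s) (base (1 - i))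
    simp only [map_mul, MulAut.conj_apply] at h2
    have n1 : ∀ t : Fin 3, t ≠ t + 1 ∧ t + 1 ≠ t + 2 ∧ t ≠ t + 2 := by decide
    rw [R.conj_s _ _ (n1 _).1, R.conj_s _ _ (n1 _).2.1, R.conj_s _ _ (n1 _).2.2] at h2
    obtain ⟨e1, e2, e3⟩ : 1 - (1 - i) = i ∧ 1 - (1 - i + 1) = j ∧ 1 - (1 - i + 2) = k := by
      clear h2; revert i j k; decide
    rwa [e1, e2, e3] at h2

theorem comm0_of_char_two (h2 : ∀ y : F, y + y = 0)
    (h : ∀ i j k : Fin 3, i ≠ j → j ≠ k → i ≠ k → ∀ a v,
      R.x i j a * R.x j k v = R.x i k (a * v) * R.x j k v * R.x i j a) :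
    ∀ i j k : Fin 3, i ≠ j → j ≠ k → i ≠ k → ∀ a v,
      Commute (R.x i j a) (R.x i k (a * v)) ∧ Commute (R.x j k v) (R.x i k (a * v)) := by
  intro i j k hij hjk hik a v
  have hself : ∀ p q y, R.x p q y * R.x p q y = 1 := fun p q y => by rw [x_add, h2, x_zero]
  have e := h i j k hij hjk hik a v
  have hz := hself i k (a * v)
  have ha := hself i j a
  have hb := hself j k v
  generalize R.x i k (a * v) = z at *
  generalize R.x i j a = p at *
  generalize R.x j k v = q at *
  have hp := inv_eq_of_mul_eq_one_right ha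
  have hq := inv_eq_of_mul_eq_one_right hb
  have hzi := inv_eq_of_mul_eq_one_right hz
  have ez : z = p * q * p * q := by
    calc z = p * q * p⁻¹ * q⁻¹ := by rw [e]; group
      _ = _ := by rw [hp, hq]
  have ez' : z = q * p * q * p := by
    rw [← hzi, ez, mul_inv_rev, mul_inv_rev, mul_inv_rev, hp, hq]; group
  constructor
  · show p * z = z * p
    calc p * z = p * (q * p * q * p) := by rw [← ez']
      _ = (p * q * p * q) * p := by group
      _ = z * p := by rw [← ez]
  · show q * z = z * q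
    calc q * z = q * (p * q * p * q) := by rw [← ez]
      _ = (q * p * q * p) * q := by group
      _ = z * q := by rw [← ez']

theorem comm0_all (hrow : ∀ a v, Commute (R.x 0 1 a) (R.x 0 2 v))
    (hcol : ∀ a v, Commute (R.x 0 1 a) (R.x 2 1 v)) : ∀ i j k l : Fin 3, i ≠ j → k ≠ l → i ≠ l →
    j ≠ k → ∀ a v, Commute (R.x i j a) (R.x k l v) := by
  have tr : ∀ (t i j k l : Fin 3), i ≠ j → k ≠ l → ∀ a v, Commute (R.x i j a) (R.x k l v) →
      Commute (R.x (i + t) (j + t) a) (R.x (k + t) (l + t) v) := by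
    intro t i j k l h1 h2 a v h
    have := h.map (MulAut.conj (R.c ^ (t : ℕ))).toMonoidHom
    simp only [MulEquiv.toMonoidHom_eq_coe, MonoidHom.coe_coe, MulAut.conj_apply] at this
    rwa [R.conj_cpow t i j h1, R.conj_cpow t k l h2] at this
  have fl : ∀ l : Fin 3, 1 + (l + 2) = l ∧ 2 + (l + 2) = l + 1 := by decide
  intro i j k l hij hkl hil hjk a v
  by_cases hki : k = i
  · subst hki
    by_cases hlj : l = j
    · subst hlj
      show R.x k l a * R.x k l v = R.x k l v * R.x k l a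
      rw [x_add, x_add, add_comm]
    by_cases hj : j = k + 1
    · have hl : l = k + 2 := by revert k j l; decide
      subst hl hj
      have := tr k 0 1 0 2 (by decide) (by decide) a v (hrow a v)
      rwa [zero_add, add_comm 1 k, add_comm 2 k] at this
    · have h1 : j = k + 2 ∧ l = k + 1 := by revert k j l; decide
      obtain ⟨rfl, rfl⟩ := h1
      have := tr k 0 1 0 2 (by decide) (by decide) v a (hrow v a)
      rw [zero_add, add_comm 1 k, add_comm 2 k] at this
      exact this.symm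
  · have hlj : l = j := by revert i j k l; decide
    subst hlj
    by_cases hi : i = l + 2
    · obtain rfl : k = l + 1 := by revert i k l; decide
      subst hi
      have := tr (l + 2) 0 1 2 1 (by decide) (by decide) a v (hcol a v)
      rwa [zero_add, (fl l).1,
        (fl l).2] at this
    · obtain ⟨rfl, rfl⟩ : i = l + 1 ∧ k = l + 2 := by revert i k l; decide
      have := tr (l + 2) 0 1 2 1 (by decide) (by decide) v a (hcol v a)
      rw [zero_add, (fl l).1,
        (fl l).2] at this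
      exact this.symm

theorem sys (h0 : ∀ i j k l : Fin 3, i ≠ j → k ≠ l → i ≠ l → j ≠ k → ∀ a v,
      Commute (R.x i j a) (R.x k l v))
    (h1 : ∀ i j k : Fin 3, i ≠ j → j ≠ k → i ≠ k → ∀ a v,
      R.x i j a * R.x j k v = R.x i k (a * v) * R.x j k v * R.x i j a) : Sys R.x :=
  Sys.of_comm (fun i j _ => R.x_add i j) h0 h1 (by decide)

theorem closure_roots (hc : Commute R.h (R.c * R.h * R.c⁻¹))
    (h012 : R.h * (R.c * R.h * R.c⁻¹) * (R.c⁻¹ * R.h * R.c) = 1) (m : ℕ)
    (hs : R.s = R.x 0 1 1 * R.x 1 0 (-1) * R.x 0 1 1 * (R.c * R.h * R.c⁻¹) ^ m)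
    (hgen : Subgroup.closure {R.x 0 1 1, R.h, R.s, R.c} = ⊤) :
    Subgroup.closure (gensAll R.x) = ⊤ := by
  set H := Subgroup.closure (gensAll R.x) with hH
  have hx : ∀ i j, i ≠ j → ∀ y, R.x i j y ∈ H := fun i j h y =>
    Subgroup.subset_closure ⟨i, j, y, h, rfl⟩
  have hmove : ∀ g : G, (∀ i j, i ≠ j → ∀ y, g * R.x i j y * g⁻¹ ∈ H) → ∀ z ∈ H, g * z * g⁻¹ ∈ H := by
    intro g hg
    have : H ≤ H.comap (MulAut.conj g).toMonoidHom := by
      rw [hH, Subgroup.closure_le]
      rintro _ ⟨i, j, y, hij, rfl⟩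
      exact hg i j hij y
    exact fun z hz => this hz
  haveI hN : H.Normal := by
    refine ⟨fun z hz g => ?_⟩
    have key : ∀ g ∈ Subgroup.closure {R.x 0 1 1, R.h, R.s, R.c},
        ∀ z ∈ H, g * z * g⁻¹ ∈ H ∧ g⁻¹ * z * g ∈ H := by
      intro g hg
      refine Subgroup.closure_induction (p := fun g _ => ∀ z ∈ H, g * z * g⁻¹ ∈ H ∧ g⁻¹ * z * g ∈ H)
        ?_ (fun z hz => by simpa using hz) ?_ (fun g _ h z hz => by simpa using (h z hz).symm) hg
      · rintro g (rfl | rfl | rfl | rfl) z hz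
        · exact ⟨H.mul_mem (H.mul_mem (hx _ _ (by decide) _) hz) (H.inv_mem (hx _ _ (by decide) _)),
            H.mul_mem (H.mul_mem (H.inv_mem (hx _ _ (by decide) _)) hz) (hx _ _ (by decide) _)⟩
        · refine ⟨hmove _ (fun i j hij y => by rw [R.scal_h i j hij]; exact hx i j hij _) z hz, ?_⟩
          have := hmove R.h⁻¹ (fun i j hij y => ?_) z hz
          · rwa [inv_inv] at this
          · have hd := (![R.w, R.w⁻¹, 1] i : Fˣ).ne_zero
            have hd' := (![R.w, R.w⁻¹, 1] j : Fˣ).ne_zero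
            have e := R.scal_h i j hij ((![R.w, R.w⁻¹, 1] j : F) / (![R.w, R.w⁻¹, 1] i : F) * y)
            rw [← mul_assoc, div_mul_div_cancel₀ hd', div_self hd, one_mul] at e
            rw [← e]
            rw [show R.h⁻¹ * (R.h * R.x i j ((![R.w, R.w⁻¹, 1] j : F) / (![R.w, R.w⁻¹, 1] i : F) * y) * R.h⁻¹) * R.h⁻¹⁻¹ =
              R.x i j ((![R.w, R.w⁻¹, 1] j : F) / (![R.w, R.w⁻¹, 1] i : F) * y) by group]
            exact hx i j hij _
        · have := hmove R.s (fun i j hij y => by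
            rw [R.conj_s i j hij]; exact hx _ _ (fun e => hij (sub_right_inj.1 e)) _) z hz
          exact ⟨this, by rwa [R.s_inv] at this ⊢⟩
        · have h1 : ∀ z ∈ H, R.c * z * R.c⁻¹ ∈ H := hmove R.c (fun i j hij y => by
            rw [R.conj_c i j hij]; exact hx _ _ (fun e => hij (add_right_cancel e)) _)
          refine ⟨h1 z hz, ?_⟩
          have := h1 _ (h1 z hz)
          rwa [show R.c * (R.c * z * R.c⁻¹) * R.c⁻¹ = (R.c ^ 3) * (R.c⁻¹ * z * R.c) * (R.c ^ 3)⁻¹ by rw [pow_three]; group,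
            R.ccc, one_mul, inv_one, mul_one] at this
      · intro a b _ _ ha hb z hz
        constructor
        · convert (ha _ (hb z hz).1).1 using 1; group
        · convert (hb _ (ha z hz).2).2 using 1; group
    exact (key g (hgen ▸ Subgroup.mem_top _) z hz).1
  have hroot : ∀ i j, i ≠ j → ∀ y, QuotientGroup.mk' H (R.x i j y) = 1 := fun i j h y =>
    (QuotientGroup.eq_one_iff _).2 (hx i j h y)
  set π := QuotientGroup.mk' H
  -- the images of the generators
  have e1 : π R.s = π (R.c * R.h * R.c⁻¹) ^ m := by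
    rw [← map_pow]
    conv_lhs => rw [hs]
    rw [map_mul, map_mul, map_mul, hroot 0 1 (by decide), hroot 1 0 (by decide), one_mul, one_mul, one_mul]
  have e2 := congrArg π R.shs
  have e3 := congrArg π R.scs
  have e4 := hc.map π
  have e5 := congrArg π h012
  have e6 := congrArg π R.ccc
  simp only [map_mul, map_inv, map_pow, map_one] at e1 e2 e3 e4 e5 e6
  set h := π R.h
  set s := π R.s
  set c := π R.c
  set a := c * h * c⁻¹ with ha
  have hsh : Commute s h := by rw [e1]; exact e4.symm.pow_left m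
  have hss : s * s = 1 := by rw [← map_mul, R.ss, map_one]
  have hh : h * h = 1 := by
    rw [hsh.eq, mul_assoc, hss, mul_one] at e2
    calc h * h = h * h⁻¹ := by rw [← e2]
      _ = 1 := mul_inv_cancel h
  have haa : a * a = 1 := by
    rw [ha, show c * h * c⁻¹ * (c * h * c⁻¹) = c * (h * h) * c⁻¹ by group, hh, mul_one, mul_inv_cancel]
  set b := c⁻¹ * h * c with hb
  have hba : h * a = b := by
    rw [← inv_eq_of_mul_eq_one_right e5, mul_inv_rev, inv_eq_of_mul_eq_one_right hh,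
      inv_eq_of_mul_eq_one_right haa, e4.eq]
  have hsc : s = 1 ∨ s = a := by
    rw [e1]
    rcases Nat.even_or_odd' m with ⟨k, rfl | rfl⟩
    · left; rw [pow_mul, pow_two, haa, one_pow]
    · right; rw [pow_succ, pow_mul, pow_two, haa, one_pow, one_mul]
  have hc1 : c ∈ ({1, h, a, b} : Set _) := by
    have hcc : c * c = c⁻¹ := eq_inv_of_mul_eq_one_left (by rw [← e6, pow_three, mul_assoc])
    rcases hsc with hs1 | hs1
    · rw [hs1, one_mul, mul_one] at e3
      left
      calc c = c * (c⁻¹ * c) := by group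
        _ = c * (c * c) := by rw [← e3]
        _ = 1 := by rw [← pow_three, e6]
    · right; right; right
      have e : a * b = c := by
        have h1 : a * c * a = c * c := by rw [hcc, ← e3, hs1]
        have h2 : a * (c * a * c⁻¹) = c := by
          calc a * (c * a * c⁻¹) = (a * c * a) * c⁻¹ := by group
            _ = c := by rw [h1, mul_inv_cancel_right]
        rwa [show c * a * c⁻¹ = b by
          rw [ha, hb, show c * (c * h * c⁻¹) * c⁻¹ = (c * c) * h * (c * c)⁻¹ by group, hcc, inv_inv]] at h2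
      have hcb : c = h := by rw [← e, ← hba, ← mul_assoc, ← e4.eq, mul_assoc, haa, mul_one]
      rw [hcb] at hb
      rw [hb]
      simp [hcb]
  have hcomm : Commute c h := by
    rcases hc1 with h1 | h1 | h1 | h1 <;> rw [h1]
    · exact Commute.one_left _
    · exact e4.symm
    · rw [← hba]; exact (Commute.refl h).mul_left e4.symm
  have hah : a = h := by rw [ha, hcomm.eq, mul_inv_cancel_right]
  have hbh : b = h := by rw [hb, mul_assoc, ← hcomm.eq, inv_mul_cancel_left]
  have hh1 : h = 1 := by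
    rw [hah, hbh, hh] at hba
    exact hba.symm
  have ha1 : a = 1 := hah.trans hh1
  have hs1 : s = 1 := by rcases hsc with h | h; exacts [h, h.trans ha1]
  have hc' : c = 1 := by
    rcases hc1 with h1 | h1 | h1 | h1
    exacts [h1, h1.trans hh1, h1.trans ha1, h1.trans (hbh.trans hh1)]
  rw [eq_top_iff, ← hgen, Subgroup.closure_le]
  rintro g (rfl | rfl | rfl | rfl)
  exacts [hx 0 1 (by decide) 1, (QuotientGroup.eq_one_iff _).1 hh1, (QuotientGroup.eq_one_iff _).1 hs1,
    (QuotientGroup.eq_one_iff _).1 hc']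

end Frame

end CfsgLib.PresentSL3
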