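import Cfsg.Agent.Lib.PresentSL3.Frame
import Cfsg.Agent.Lib.PresentSL2.Bound
import Cfsg.Agent.Lib.PresentSL2.Module
import Cfsg.Agent.Lib.Linear.Transvection

/-!
A presentation of `SL₃(F)` on four generators with fourteen relations.
-/

set_option autoImplicit false

namespace CfsgLib.PresentSL3

open Polynomial CfsgLib.PresentSL2
open CfsgLib.SteinbergSL (gensAll card_le_SL)

/-- The criterion for a presentation on four generators. -/
theorem presented_iso_four {T : Type*} [Group T] [Finite T] (v : Fin 4 → T)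
    (hgen : Subgroup.closure (Set.range v) = ⊤) (L : List (FreeGroup (Fin 4)))
    (hL : ∀ w ∈ L, FreeGroup.lift v w = 1)
    (hcore : ∀ (G : Type) [Group G] (v : Fin 4 → G), Subgroup.closure (Set.range v) = ⊤ →
      (∀ w ∈ L, FreeGroup.lift v w = 1) → Finite G ∧ Nat.card G ≤ Nat.card T) :
    ∃ rels : Finset (FreeGroup (Fin 4)), rels.card ≤ L.length ∧
      Nonempty (PresentedGroup (↑rels : Set (FreeGroup (Fin 4))) ≃* T) := by
  classical
  refine ⟨L.toFinset, L.toFinset_card_le, ?_⟩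
  set R : Set (FreeGroup (Fin 4)) := ↑L.toFinset with hR
  have hf : ∀ r ∈ R, FreeGroup.lift v r = 1 := fun r hr => hL r (by simpa [hR] using hr)
  let φ : PresentedGroup R →* T := PresentedGroup.toGroup hf
  have hrel : ∀ w ∈ L, FreeGroup.lift (fun i => (PresentedGroup.of i : PresentedGroup R)) w = 1 := by
    intro w hw
    have he : FreeGroup.lift (fun i => (PresentedGroup.of i : PresentedGroup R)) = PresentedGroup.mk R :=
      FreeGroup.ext_hom _ _ fun i => by simp [PresentedGroup.of]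
    rw [he]
    exact PresentedGroup.one_of_mem (by simpa [hR] using hw)
  obtain ⟨hfin, hle⟩ := hcore _ _ (PresentedGroup.closure_range_of R) hrel
  have hsurj : Function.Surjective φ := by
    rw [← MonoidHom.range_eq_top, eq_top_iff, ← hgen, Subgroup.closure_le]
    rintro x ⟨i, rfl⟩
    exact ⟨_, PresentedGroup.toGroup.of hf⟩
  exact ⟨MulEquiv.ofBijective φ ((Nat.bijective_iff_surjective_and_card φ).2
    ⟨hsurj, le_antisymm hle (Nat.card_le_card_of_surjective φ hsurj)⟩)⟩

section Field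

variable {F : Type*} [Field F]

theorem aeval_mem {x : F} (S : Set F) (h0 : (0 : F) ∈ S) (hadd : ∀ a ∈ S, ∀ b ∈ S, a + b ∈ S)
    (hx : ∀ l : ℕ, x ^ l ∈ S ∧ -(x ^ l) ∈ S) (P : ℤ[X]) : aeval x P ∈ S := by
  have hn : ∀ y ∈ S, ∀ n : ℕ, n • y ∈ S := by
    intro y hy n
    induction n with
    | zero => simpa using h0
    | succ n ih => rw [succ_nsmul]; exact hadd _ ih _ hy
  induction P using Polynomial.induction_on' with
  | add A B hA hB => rw [map_add]; exact hadd _ hA _ hB
  | monomial l z =>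
    rw [← C_mul_X_pow_eq_monomial, ← smul_eq_C_mul, map_zsmul, map_pow, aeval_X]
    rcases Int.eq_nat_or_neg z with ⟨n, rfl | rfl⟩
    · rw [natCast_zsmul]; exact hn _ (hx l).1 n
    · rw [neg_zsmul, natCast_zsmul, ← smul_neg]; exact hn _ (hx l).2 n

variable [Fintype F] {p e : ℕ}

theorem not_fixed (hF : Fintype.card F = p ^ e) {w : Fˣ} (hgen : ∀ x : Fˣ, x ∈ Subgroup.zpowers w)
    {j d : ℕ} (h0 : 0 < j * (p ^ d - 1)) (hlt : j * (p ^ d - 1) < p ^ e - 1) :
    ((w : F) ^ j) ^ p ^ d ≠ (w : F) ^ j := by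
  intro heq
  have hord : orderOf w = p ^ e - 1 := by
    rw [orderOf_eq_card_of_forall_mem_zpowers hgen, Nat.card_units, Nat.card_eq_fintype_card, hF]
  have h1 : (1 : ℕ) ≤ p ^ d := by
    rcases Nat.eq_zero_or_pos (p ^ d) with h | h
    · simp [h] at h0
    · exact h
  have h2 : w ^ (j * (p ^ d - 1)) = 1 := by
    have h3 : w ^ (j * (p ^ d - 1)) * w ^ j = w ^ j := by
      apply Units.ext
      simp only [Units.val_mul, Units.val_pow_eq_pow_val]
      rw [← pow_add, ← Nat.mul_succ, Nat.succ_eq_add_one, Nat.sub_add_cancel h1, pow_mul, heq]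
    exact mul_eq_right.1 h3
  have := Nat.le_of_dvd h0 (hord ▸ orderOf_dvd_of_pow_eq_one h2)
  omega

theorem exists_D [Fact p.Prime] [CharP F p] (hF : Fintype.card F = p ^ e) {w : Fˣ}
    (hgen : ∀ x : Fˣ, x ∈ Subgroup.zpowers w) : Nonempty (PolyData p (w : F)⁻¹) := by
  refine exists_polyData hF fun d h1 h2 heq => ?_
  have hp := (Fact.out : p.Prime).two_le
  have hQ : 2 ≤ p ^ d := le_trans hp (Nat.le_self_pow (by omega) p)
  have hlt : p ^ d < p ^ e := Nat.pow_lt_pow_right hp (by omega)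
  refine not_fixed hF hgen (j := 1) (d := d) (by omega) (by omega) ?_
  rw [pow_one]
  rwa [inv_pow, inv_inj] at heq

theorem cubeSpan [Fact p.Prime] [CharP F p] (hp : p ≠ 2) (hF : Fintype.card F = p ^ e) {w : Fˣ}
    (hgen : ∀ x : Fˣ, x ∈ Subgroup.zpowers w) : Frame.CubeSpan F := by
  intro S h0 hadd hcube
  have hp3 : 3 ≤ p := by
    have := (Fact.out : p.Prime).two_le
    omega
  obtain ⟨D⟩ := exists_polyData hF (x := (w : F) ^ 3) (fun d h1 h2 => by
    have hQ : 3 ≤ p ^ d := le_trans hp3 (Nat.le_self_pow (by omega) p)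
    have hle : p ^ d * p ^ d ≤ p ^ e := by rw [← pow_add]; exact Nat.pow_le_pow_right (by omega) (by omega)
    have : 3 * p ^ d ≤ p ^ d * p ^ d := Nat.mul_le_mul_right _ hQ
    exact not_fixed hF hgen (by omega) (by omega))
  refine Set.eq_univ_of_forall fun y => ?_
  obtain ⟨P, rfl⟩ := D.surj y
  refine aeval_mem S h0 hadd (fun l => ⟨?_, ?_⟩) P
  · rw [← pow_mul, mul_comm, pow_mul, ← Units.val_pow_eq_pow_val]
    exact hcube _
  · have := hcube (-(w ^ l))
    rwa [Units.val_neg, Units.val_pow_eq_pow_val, Odd.neg_pow (by decide : Odd 3), ← pow_mul, mul_comm, pow_mul] at this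

end Field

/-- The relations fixing the frame. -/
noncomputable def baseW {G : Type*} [Group G] (p k m : ℕ) (small : Bool) (M Pg : ℤ[X]) (u h s c : G) :
    List G :=
  [u ^ p,
    u * cj (c * h * c⁻¹) u 1 * (cj (c * h * c⁻¹) u 1 * u)⁻¹,
    if small then cj (c * h * c⁻¹) u 1 * u
      else (c * h * c⁻¹) ^ k * u * ((c * h * c⁻¹) ^ k)⁻¹ * (u * cj (c * h * c⁻¹) u 1)⁻¹,
    ev (c * h * c⁻¹) u M,
    s * s,
    s * c * s * (c * c)⁻¹,
    s⁻¹ * (u * (s * u⁻¹ * s⁻¹) * u * (c * h * c⁻¹) ^ m),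
    h * (c * h * c⁻¹) * ((c * h * c⁻¹) * h)⁻¹,
    h * (c * h * c⁻¹) * (c⁻¹ * h * c),
    h * u * h⁻¹ * (ev (c * h * c⁻¹) u Pg)⁻¹,
    s * h * s * h]

/-- The root conjugate of an element. -/
def rootW {G : Type*} [Group G] (s c : G) (i j : Fin 3) (z : G) : G :=
  wordW c s i j * z * (wordW c s i j)⁻¹

/-- The commutator relations in odd characteristic. -/
noncomputable def oddW {G : Type*} [Group G] (u s c : G) : List G :=
  [u * rootW s c 0 2 u * (rootW s c 0 2 u * u)⁻¹,
    u * rootW s c 2 1 u * (rootW s c 2 1 u * u)⁻¹,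
    u * rootW s c 1 2 u * (rootW s c 0 2 u * rootW s c 1 2 u * u)⁻¹]

/-- A commutator relation in characteristic two. -/
noncomputable def cosetW {G : Type*} [Group G] (u h s c : G) (P : ℤ[X]) : G :=
  u * rootW s c 1 2 (ev (c * h * c⁻¹) u P) *
    (rootW s c 0 2 (ev (c * h * c⁻¹) u P) * rootW s c 1 2 (ev (c * h * c⁻¹) u P) * u)⁻¹

theorem map_rootW {G G' : Type*} [Group G] [Group G'] (f : G →* G') (s c : G) (i j : Fin 3) (z : G) :
    f (rootW s c i j z) = rootW (f s) (f c) i j (f z) := by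
  unfold rootW wordW
  split_ifs <;> simp

theorem map_cosetW {G G' : Type*} [Group G] [Group G'] (f : G →* G') (u h s c : G) (P : ℤ[X]) :
    f (cosetW u h s c P) = cosetW (f u) (f h) (f s) (f c) P := by
  simp [cosetW, map_rootW, map_ev]

theorem map_baseW {G G' : Type*} [Group G] [Group G'] (f : G →* G') (p k m : ℕ) (small : Bool)
    (M Pg : ℤ[X]) (u h s c : G) :
    (baseW p k m small M Pg u h s c).map f = baseW p k m small M Pg (f u) (f h) (f s) (f c) := by
  cases small <;> simp [baseW, map_ev, map_cj]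

theorem map_oddW {G G' : Type*} [Group G] [Group G'] (f : G →* G') (u s c : G) :
    (oddW u s c).map f = oddW (f u) (f s) (f c) := by
  simp [oddW, map_rootW]

variable {F : Type*} [Field F]

theorem exists_pow_eq [Finite F] {w : Fˣ} (hgen : ∀ x : Fˣ, x ∈ Subgroup.zpowers w) (y : Fˣ) :
    ∃ r : ℕ, w ^ r = y := by
  have h := hgen y
  rwa [← mem_powers_iff_mem_zpowers] at h

/-- The frame in a group with the base relations. -/
theorem exists_frame [Fintype F] {p : ℕ} [Fact p.Prime] [CharP F p] {w : Fˣ}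
    (hgen : ∀ x : Fˣ, x ∈ Subgroup.zpowers w) (D : PolyData p (w : F)⁻¹) {k m : ℕ} {small : Bool}
    {Pg : ℤ[X]} (hPg : aeval (w : F)⁻¹ Pg = (w : F) * w) {G : Type*} [Group G] {u h s c : G}
    (hrel : ∀ z ∈ baseW p k m small D.M Pg u h s c, z = 1) :
    ∃ R : Frame F G, R.w = w ∧ R.h = h ∧ R.s = s ∧ R.c = c ∧ R.Φ (Multiplicative.ofAdd 1) = u ∧
      Commute h (c * h * c⁻¹) ∧ h * (c * h * c⁻¹) * (c⁻¹ * h * c) = 1 ∧
      s = R.x 0 1 1 * R.x 1 0 (-1) * R.x 0 1 1 * (c * h * c⁻¹) ^ m := by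
  simp only [baseW, List.forall_mem_cons, List.not_mem_nil, false_imp_iff, implies_true, and_true] at hrel
  obtain ⟨hp, h01, h3, hM, hss, hscs, hword, hcomm, h012, hg, hshs⟩ := hrel
  rw [mul_inv_eq_one] at h01 hscs hcomm hg
  set a := c * h * c⁻¹ with ha
  have hcc : c ^ 3 = 1 := by
    have e : c = (c * c) * (c * c) := by
      calc c = (s * s) * c * (s * s) := by rw [hss, one_mul, mul_one]
        _ = s * (s * c * s) * s := by group
        _ = s * (c * c) * s := by rw [hscs]
        _ = (s * c * s) * (s * c * s) := by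
          calc s * (c * c) * s = s * c * 1 * c * s := by group
            _ = _ := by rw [← hss]; group
        _ = _ := by rw [hscs]
    have e2 : c * c ^ 3 = c * 1 := by
      rw [mul_one]
      conv_rhs => rw [e]
      rw [pow_three]; group
    exact mul_left_cancel e2
  have hscs' : s * c * s = c⁻¹ := by
    rw [hscs]
    exact eq_inv_of_mul_eq_one_left (by rw [← pow_two, ← pow_succ, hcc])
  have hshs' : s * h * s = h⁻¹ := eq_inv_of_mul_eq_one_left hshs
  have hcj : ∀ n, Commute u (cj a u n) := by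
    cases small with
    | true =>
      simp only [if_true] at h3
      have hz : ∀ n, cj a u n ∈ Subgroup.zpowers u := by
        intro n
        induction n with
        | zero => rw [cj_zero]; exact Subgroup.mem_zpowers u
        | succ n ih =>
          obtain ⟨z, hz⟩ := ih
          refine ⟨-z, ?_⟩
          simp only at hz ⊢
          rw [add_comm n 1, cj_add, pow_one, ← hz, ← conj_zpow, zpow_neg, ← inv_zpow]
          rw [show a * u * a⁻¹ = u⁻¹ by
            have : cj a u 1 = u⁻¹ := eq_inv_of_mul_eq_one_left h3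
            rwa [cj, pow_one] at this]
      intro n
      obtain ⟨z, hz⟩ := hz n
      simp only at hz
      rw [← hz]
      exact (Commute.refl u).zpow_right z
    | false =>
      simp only [Bool.false_eq_true, if_false, mul_inv_eq_one] at h3
      exact commute_cj ((Commute.refl a).pow_right k) h01 h3
  obtain ⟨Ψ⟩ := nonempty_polyHom (a ^ 1) u (by simpa only [pow_one] using hcj)
  obtain ⟨Φ, hΦ1, hΦ⟩ : IsFieldHom (w : F)⁻¹ a u :=
    field_hom D (h := a) 1 Ψ hp (by rw [pow_one]; exact hM) X (aeval_X _) (by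
      rw [Ψ.ev_eq, ← pow_one (X : ℤ[X]), Ψ.X_pow]; simp [cj])
  have hev : ∀ P, ev a u P = Φ (Multiplicative.ofAdd (aeval (w : F)⁻¹ P)) := fun P =>
    ev_of_field_hom Φ hΦ1 hΦ P
  rw [hev, hPg] at hg
  have act0 : ∀ y, h * Φ (Multiplicative.ofAdd y) * h⁻¹ =
      Φ (Multiplicative.ofAdd ((w : F) * w * y)) := by
    intro y
    obtain ⟨P, rfl⟩ := D.surj y
    refine aeval_mem {y | h * Φ (Multiplicative.ofAdd y) * h⁻¹ =
      Φ (Multiplicative.ofAdd ((w : F) * w * y))} (by simp) (fun p hp q hq => ?_) (fun l => ?_) P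
    · simp only [Set.mem_setOf_eq] at hp hq ⊢
      rw [mul_add, ofAdd_add, ofAdd_add, map_mul, map_mul, ← hp, ← hq]
      group
    · have key : h * Φ (Multiplicative.ofAdd ((w : F)⁻¹ ^ l)) * h⁻¹ =
          Φ (Multiplicative.ofAdd ((w : F) * w * (w : F)⁻¹ ^ l)) := by
        have e := shift_pow Φ hΦ l
        have e1 := e 1
        rw [mul_one, hΦ1] at e1
        rw [← e1, mul_comm ((w : F) * w), ← e, ← hg,
          show h * (a ^ l * u * (a ^ l)⁻¹) * h⁻¹ = (h * a ^ l) * u * (h * a ^ l)⁻¹ by group,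
          (Commute.pow_right hcomm l).eq]
        group
      refine ⟨key, ?_⟩
      simp only [Set.mem_setOf_eq, mul_neg, ofAdd_neg, map_inv]
      rw [← key]
      group
  have hb : c⁻¹ * h * c = (h * a)⁻¹ := eq_inv_of_mul_eq_one_right h012
  let R : Frame F G :=
    { w := w
      gen := exists_pow_eq hgen
      h := h
      s := s
      c := c
      Φ := Φ
      ss := hss
      ccc := hcc
      scs := hscs'
      shs := hshs'
      act0 := act0
      act1 := hΦ
      act2 := fun y => by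
        rw [hb]
        have e := act0 ((w : F)⁻¹ * ((w : F)⁻¹ * y))
        have e2 := hΦ ((w : F)⁻¹ * y)
        have hw := w.ne_zero
        rw [show (w : F) * w * ((w : F)⁻¹ * ((w : F)⁻¹ * y)) = y by field_simp, ← e2] at e
        rw [← e]
        group }
  refine ⟨R, rfl, rfl, rfl, rfl, hΦ1, hcomm, h012, ?_⟩
  have e : R.x 1 0 (-1) = s * u⁻¹ * s⁻¹ := by
    show wordW c s 1 0 * Φ (Multiplicative.ofAdd (-1 : F)) * (wordW c s 1 0)⁻¹ = _
    rw [ofAdd_neg, map_inv, hΦ1]
    simp [wordW]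
  rw [R.x_zero_one, hΦ1, e]
  exact inv_mul_eq_one.1 hword

end CfsgLib.PresentSL3
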