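import Cfsg.Agent.Lib.PresentSL3.Target

/-!
`SL₃(F)` on four generators with thirteen relations: the column relations follow from the others.
-/

set_option autoImplicit false

namespace CfsgLib.PresentSL3

open Polynomial CfsgLib.PresentSL2
open CfsgLib.SteinbergSL (Sys gensAll card_le_SL)

variable {F : Type*} [Field F] {G : Type*} [Group G]

theorem commute_of_self_inverse {p q z : G} (hp : p * p = 1) (hq : q * q = 1) (hz : z * z = 1)
    (e : p * q = z * q * p) : Commute p z := by
  have hp' := inv_eq_of_mul_eq_one_right hp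
  have hq' := inv_eq_of_mul_eq_one_right hq
  have hzi := inv_eq_of_mul_eq_one_right hz
  have ez : z = p * q * p * q := by
    calc z = p * q * p⁻¹ * q⁻¹ := by rw [e]; group
      _ = _ := by rw [hp', hq']
  have ez' : z = q * p * q * p := by
    rw [← hzi, ez, mul_inv_rev, mul_inv_rev, mul_inv_rev, hp', hq']; group
  show p * z = z * p
  calc p * z = p * (q * p * q * p) := by rw [← ez']
    _ = (p * q * p * q) * p := by group
    _ = z * p := by rw [← ez]

namespace Frame

variable (R : Frame F G)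

theorem comm1_add_left (hrow : ∀ a v, Commute (R.x 0 1 a) (R.x 0 2 v)) {a a' v : F} (h : R.Comm1 a v)
    (h' : R.Comm1 a' v) : R.Comm1 (a + a') v := by
  unfold Comm1 at h h' ⊢
  rw [← R.x_add 0 1, add_mul, add_comm (a * v), ← R.x_add 0 2]
  calc R.x 0 1 a * R.x 0 1 a' * R.x 1 2 v
      = R.x 0 1 a * (R.x 0 2 (a' * v) * R.x 1 2 v * R.x 0 1 a') := by rw [mul_assoc, h']
    _ = (R.x 0 1 a * R.x 0 2 (a' * v)) * R.x 1 2 v * R.x 0 1 a' := by group
    _ = R.x 0 2 (a' * v) * (R.x 0 1 a * R.x 1 2 v) * R.x 0 1 a' := by rw [(hrow a (a' * v)).eq]; group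
    _ = _ := by rw [h]; group

/-- The column relations follow from the other commutator relations. -/
theorem col_of_comm1 (h : ∀ a v, R.Comm1 a v) (a v : F) : Commute (R.x 0 1 a) (R.x 2 1 v) := by
  have key : ∀ v t, Commute (R.x 1 2 v) (R.x 0 2 t) := by
    intro v t
    have e := h 1 (v + t)
    have h1 := h 1 v
    have h2 := h 1 t
    unfold Comm1 at e h1 h2
    rw [one_mul] at e h1 h2
    rw [← R.x_add 1 2 v t, ← R.x_add 0 2 v t, ← mul_assoc, h1, mul_assoc _ _ (R.x 1 2 t), h2] at e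
    have e' : R.x 0 2 v * (R.x 1 2 v * R.x 0 2 t) * (R.x 1 2 t * R.x 0 1 1) =
        R.x 0 2 v * (R.x 0 2 t * R.x 1 2 v) * (R.x 1 2 t * R.x 0 1 1) := by
      simpa only [mul_assoc] using e
    exact mul_left_cancel (mul_right_cancel e')
  have := (key a v).symm.map (MulAut.conj (R.c ^ ((2 : Fin 3) : ℕ))).toMonoidHom
  simp only [MulEquiv.toMonoidHom_eq_coe, MonoidHom.coe_coe, MulAut.conj_apply] at this
  rw [R.conj_cpow 2 0 2 (by decide), R.conj_cpow 2 1 2 (by decide)] at this
  exact (show Commute (R.x 2 1 v) (R.x 0 1 a) from this).symm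

theorem sys_of_row (hrow : ∀ a v, Commute (R.x 0 1 a) (R.x 0 2 v)) (h : ∀ a v, R.Comm1 a v) : Sys R.x :=
  R.sys (R.comm0_all hrow (R.col_of_comm1 h)) (R.comm1_all h)

theorem comm1_of_row_span (hF : CubeSpan F) (hrow : ∀ a v, Commute (R.x 0 1 a) (R.x 0 2 v))
    (h : R.Comm1 1 1) (a v : F) : R.Comm1 a v := by
  by_cases hv : v = 0
  · simp [Comm1, hv, x_zero]
  refine cube_extend hF (P := fun a => R.Comm1 a v) (z := v) (by simp [Comm1, x_zero])
    (fun p q hp hq => R.comm1_add_left hrow hp hq) hv (fun b => ?_) a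
  have := R.comm1_scal h (Units.mk0 v hv * b ^ 3) b⁻¹
  convert this using 1 <;> simp

theorem sys_of_two_cosets (hS : ∀ S : Set F, 0 ∈ S → (∀ a ∈ S, ∀ b ∈ S, a + b ∈ S) →
      (∀ b : Fˣ, (b : F) ^ 3 ∈ S ∧ (R.w : F) * (b : F) ^ 3 ∈ S) → S = Set.univ)
    (h2 : ∀ y : F, y + y = 0) (hz : ∀ r < 2, R.Comm1 1 ((R.w : F) ^ r)) : Sys R.x := by
  have hw := R.w.ne_zero
  have hself : ∀ p q y, R.x p q y * R.x p q y = 1 := fun p q y => by rw [x_add, h2, x_zero]
  have h0 := hz 0 (by norm_num)
  have h1 := hz 1 (by norm_num)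
  rw [pow_zero] at h0
  rw [pow_one] at h1
  have hrow : ∀ a v, Commute (R.x 0 1 a) (R.x 0 2 v) := by
    intro a v
    by_cases ha : a = 0
    · rw [ha, x_zero]; exact Commute.one_left _
    have := hS {y | Commute (R.x 0 1 a) (R.x 0 2 (a * a * y))}
      (by simp [x_zero]) (fun p hp q hq => by
        show Commute _ (R.x 0 2 (a * a * (p + q)))
        rw [mul_add, ← x_add]; exact hp.mul_right hq) fun b => ?_
    · have hv : v / (a * a) ∈ {y | Commute (R.x 0 1 a) (R.x 0 2 (a * a * y))} := this ▸ Set.mem_univ _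
      simpa [mul_div_cancel₀ _ (mul_ne_zero ha ha)] using hv
    have key : ∀ z, R.Comm1 1 z → Commute (R.x 0 1 a) (R.x 0 2 (a * a * (z * (b : F) ^ 3))) := by
      intro z hz'
      have e := R.comm1_scal hz' (Units.mk0 a ha) b
      rw [Units.val_mk0, mul_one] at e
      have := commute_of_self_inverse (hself 0 1 a) (hself 1 2 _) (hself 0 2 _) e
      convert this using 2
      ring
    exact ⟨by simpa using key 1 h0, key _ h1⟩
  refine R.sys_of_row hrow fun a v => ?_
  by_cases hv : v = 0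
  · simp [Comm1, hv, x_zero]
  have := hS {y | R.Comm1 (v / (R.w : F) * y) v} (by simp [Comm1, x_zero]) (fun p hp q hq => by
    show R.Comm1 (v / (R.w : F) * (p + q)) v
    rw [mul_add]; exact R.comm1_add_left hrow hp hq) fun b => ?_
  · have hm : a * R.w / v ∈ {y | R.Comm1 (v / (R.w : F) * y) v} := this ▸ Set.mem_univ _
    have e : v / (R.w : F) * (a * R.w / v) = a := by field_simp
    simpa [e] using hm
  have hb := b.ne_zero
  refine ⟨?_, ?_⟩
  · have := R.comm1_scal h1 (Units.mk0 v hv * R.w⁻¹ * b ^ 3) b⁻¹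
    show R.Comm1 _ _
    convert this using 1 <;> simp <;> field_simp
  · have := R.comm1_scal h0 (Units.mk0 v hv * b ^ 3) b⁻¹
    show R.Comm1 _ _
    convert this using 1 <;> simp <;> field_simp

end Frame

/-- Cubes and one coset of them span the field. -/
theorem cubeSpan_of_card [Fintype F] {p e : ℕ} [Fact p.Prime] [CharP F p] (hF : Fintype.card F = p ^ e)
    {w : Fˣ} (hgen : ∀ x : Fˣ, x ∈ Subgroup.zpowers w) (hq : Fintype.card F ≠ 4) : Frame.CubeSpan F := by
  intro S h0 hadd hcube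
  have hp := (Fact.out : p.Prime).two_le
  obtain ⟨D⟩ := exists_polyData hF (x := (w : F) ^ 3) (fun d h1 h2 => by
    have hQ : 2 ≤ p ^ d := le_trans hp (Nat.le_self_pow (by omega) p)
    have hle : p ^ d * p ^ d ≤ p ^ e := by rw [← pow_add]; exact Nat.pow_le_pow_right (by omega) (by omega)
    have hlt : p ^ d < p ^ e := Nat.pow_lt_pow_right hp (by omega)
    refine not_fixed hF hgen (by omega) ?_
    rcases Nat.lt_or_ge (p ^ d) 3 with h | h
    · have h4 : p ^ d = 2 := by omega
      rw [h4] at hlt hle ⊢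
      have hp2 : p = 2 := by
        have := Nat.le_self_pow (show d ≠ 0 by omega) p
        omega
      subst hp2
      have : e ≠ 2 := fun he => hq (by rw [hF, he]; norm_num)
      have : 2 ^ 3 ≤ 2 ^ e := Nat.pow_le_pow_right (by norm_num) (by omega)
      omega
    · have : 3 * p ^ d ≤ p ^ d * p ^ d := Nat.mul_le_mul_right _ h
      omega)
  refine Set.eq_univ_of_forall fun y => ?_
  obtain ⟨P, rfl⟩ := D.surj y
  refine aeval_mem S h0 hadd (fun l => ⟨?_, ?_⟩) P
  · rw [← pow_mul, mul_comm, pow_mul, ← Units.val_pow_eq_pow_val]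
    exact hcube _
  · have := hcube (-(w ^ l))
    rwa [Units.val_neg, Units.val_pow_eq_pow_val, Odd.neg_pow (by decide : Odd 3), ← pow_mul, mul_comm, pow_mul] at this

theorem twoCosetSpan [Fintype F] [CharP F 2] {e : ℕ} (hF : Fintype.card F = 2 ^ e) {w : Fˣ}
    (hgen : ∀ x : Fˣ, x ∈ Subgroup.zpowers w) (S : Set F) (h0 : (0 : F) ∈ S)
    (hadd : ∀ a ∈ S, ∀ b ∈ S, a + b ∈ S)
    (h : ∀ b : Fˣ, (b : F) ^ 3 ∈ S ∧ (w : F) * (b : F) ^ 3 ∈ S) : S = Set.univ := by
  classical
  by_cases hq : Fintype.card F = 4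
  · have h1 : (1 : F) ∈ S := by simpa using (h 1).1
    have hw : (w : F) ∈ S := by simpa using (h 1).2
    have hne : (w : F) ≠ 1 := by
      intro e1
      have := orderOf_eq_card_of_forall_mem_zpowers hgen
      rw [Units.ext (e1.trans Units.val_one.symm) (v := (1 : Fˣ)), orderOf_one, Nat.card_units,
        Nat.card_eq_fintype_card, hq] at this
      omega
    have hs : ({0, 1, (w : F), 1 + (w : F)} : Finset F) = Finset.univ := by
      refine Finset.eq_univ_of_card _ ?_
      rw [hq, Finset.card_insert_of_notMem, Finset.card_insert_of_notMem, Finset.card_insert_of_notMem,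
        Finset.card_singleton]
      · simp [w.ne_zero]
      · simp [hne.symm, w.ne_zero]
      · simp only [Finset.mem_insert, Finset.mem_singleton, not_or]
        refine ⟨zero_ne_one, w.ne_zero.symm, fun e2 => hne ?_⟩
        linear_combination e2.symm - CharTwo.add_self_eq_zero (1 : F)
    refine Set.eq_univ_of_forall fun y => ?_
    have := Finset.mem_univ y
    rw [← hs] at this
    simp only [Finset.mem_insert, Finset.mem_singleton] at this
    rcases this with rfl | rfl | rfl | rfl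
    exacts [h0, h1, hw, hadd _ h1 _ hw]
  · exact cubeSpan_of_card hF hgen hq S h0 hadd fun b => (h b).1

/-- The two commutator relations in odd characteristic. -/
noncomputable def oddW' {G : Type*} [Group G] (u s c : G) : List G :=
  [u * rootW s c 0 2 u * (rootW s c 0 2 u * u)⁻¹,
    u * rootW s c 1 2 u * (rootW s c 0 2 u * rootW s c 1 2 u * u)⁻¹]

theorem lift_oddW' {G : Type*} [Group G] (v : Fin 4 → G) :
    (oddW' (FreeGroup.of (0 : Fin 4)) (FreeGroup.of 2) (FreeGroup.of 3)).map (FreeGroup.lift v) =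
      oddW' (v 0) (v 2) (v 3) := by
  simp [oddW', map_rootW]

theorem lift_cosetW' {G : Type*} [Group G] (v : Fin 4 → G) (P : ℕ → ℤ[X]) :
    ((List.range 2).map fun r =>
        cosetW (FreeGroup.of (0 : Fin 4)) (FreeGroup.of 1) (FreeGroup.of 2) (FreeGroup.of 3) (P r)).map
      (FreeGroup.lift v) = (List.range 2).map fun r => cosetW (v 0) (v 1) (v 2) (v 3) (P r) := by
  rw [List.map_map]
  refine List.map_congr_left fun r _ => ?_
  simp [map_cosetW]

theorem presentation_sl_three_thirteen [Fintype F] :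
    ∃ rels : Finset (FreeGroup (Fin 4)), rels.card ≤ 13 ∧
      Nonempty (PresentedGroup (↑rels : Set (FreeGroup (Fin 4))) ≃* Matrix.SpecialLinearGroup (Fin 3) F) := by
  classical
  obtain ⟨p, hp⟩ := CharP.exists F
  have : Fact p.Prime := ⟨CharP.char_is_prime F p⟩
  obtain ⟨e, -, hF⟩ := FiniteField.card F p
  obtain ⟨w, hgen⟩ : ∃ w : Fˣ, ∀ x : Fˣ, x ∈ Subgroup.zpowers w := IsCyclic.exists_generator
  obtain ⟨D⟩ := exists_D hF hgen
  have hw : (w : F) ≠ 0 := w.ne_zero
  set small : Bool := decide ((w : F)⁻¹ + 1 = 0) with hsmall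
  obtain ⟨k, hk⟩ : ∃ k : ℕ, small = false → ((w : F)⁻¹) ^ k = 1 + (w : F)⁻¹ := by
    by_cases h : (w : F)⁻¹ + 1 = 0
    · exact ⟨0, fun e => by simp [hsmall, h] at e⟩
    · obtain ⟨k, hk⟩ := exists_pow_eq hgen (Units.mk0 _ h)⁻¹
      refine ⟨k, fun _ => ?_⟩
      have := congrArg Units.val hk
      simp only [Units.val_pow_eq_pow_val, Units.val_inv_eq_inv_val, Units.val_mk0] at this
      rw [inv_pow, this, inv_inv, add_comm]
  obtain ⟨m, hm⟩ := exists_pow_eq hgen (-1)
  set Pg := (D.surj ((w : F) * w)).choose with hPgd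
  have hPg : aeval (w : F)⁻¹ Pg = (w : F) * w := aeval_polyW D _
  -- the target
  set u₀ : Matrix.SpecialLinearGroup (Fin 3) F := eT (Multiplicative.ofAdd 1) with hu₀
  set h₀ : Matrix.SpecialLinearGroup (Fin 3) F := dgT (w, w⁻¹) with hh₀
  have ha₀ : cT * h₀ * cT⁻¹ = dgT (1, w) := by rw [hh₀, cT_dgT]; simp
  have hb₀ : (cT : Matrix.SpecialLinearGroup (Fin 3) F)⁻¹ * h₀ * cT = dgT (w⁻¹, 1) := by
    rw [show (cT : Matrix.SpecialLinearGroup (Fin 3) F)⁻¹ * h₀ * cT = cT * (cT * h₀ * cT⁻¹) * cT⁻¹ by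
      have e : (cT : Matrix.SpecialLinearGroup (Fin 3) F)⁻¹ = cT * cT :=
        inv_eq_of_mul_eq_one_right (by rw [← mul_assoc, cT_cube])
      conv_rhs => rw [show cT * (cT * h₀ * cT⁻¹) * cT⁻¹ = (cT * cT) * h₀ * (cT * cT)⁻¹ by group]
      rw [← e, inv_inv], ha₀, cT_dgT]
    simp
  have hevT : ∀ P, ev (cT * h₀ * cT⁻¹) u₀ P = eT (Multiplicative.ofAdd (aeval (w : F)⁻¹ P)) :=
    ev_of_field_hom eT rfl fun y => by rw [ha₀, dgT_eT]; simp
  have hcjT : cj (cT * h₀ * cT⁻¹) u₀ 1 = eT (Multiplicative.ofAdd ((w : F)⁻¹)) := by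
    rw [cj, pow_one, ha₀, hu₀, dgT_eT]
    simp
  have hbase : ∀ z ∈ baseW p k m small D.M Pg u₀ h₀ sT cT, z = 1 := by
    have hsinv : (sT : Matrix.SpecialLinearGroup (Fin 3) F)⁻¹ = sT := inv_eq_of_mul_eq_one_right sT_sq
    simp only [baseW, List.forall_mem_cons, List.not_mem_nil, false_imp_iff, implies_true, and_true,
      mul_inv_eq_one]
    refine ⟨?_, ?_, ?_, ?_, sT_sq, sT_cT, ?_, ?_, ?_, ?_, ?_⟩
    · rw [hu₀, ← map_pow, ← ofAdd_nsmul]; simp
    · rw [hcjT, hu₀]
      exact ((Commute.all _ _).map eT).eq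
    · rw [hcjT, hu₀]
      cases hs : small with
      | true =>
        rw [hsmall, decide_eq_true_iff] at hs
        rw [if_pos rfl, ← map_mul, ← ofAdd_add, hs, ofAdd_zero, map_one]
      | false =>
        rw [if_neg (by simp), ha₀, ← map_pow dgT, dgT_eT, ← map_mul, ← ofAdd_add, mul_inv_eq_one]
        have := hk hs
        simp only [Prod.pow_fst, Prod.pow_snd, one_pow, Units.val_one, Units.val_pow_eq_pow_val]
        rw [one_div, ← inv_pow, this, mul_one]
    · rw [hevT, D.root, ofAdd_zero, map_one]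
    · rw [inv_mul_eq_one, ha₀, ← map_pow dgT, hsinv, hu₀, ← map_inv (eT (F := F)), ← ofAdd_neg,
        show ((1 : Fˣ), w) ^ m = (1, -1) by rw [Prod.pow_mk, one_pow, hm]]
      exact sT_word
    · rw [ha₀, hh₀, ← map_mul, ← map_mul, mul_comm]
    · rw [ha₀, hb₀, hh₀, ← map_mul, ← map_mul]
      simp [Prod.mk_one_one]
    · rw [hevT, hPg, hh₀, hu₀, dgT_eT]
      congr 2
      simp
    · rw [hh₀, sT_dgT, ← map_mul]
      simp [Prod.mk_one_one]
  obtain ⟨R₀, hR₀w, hR₀h, hR₀s, hR₀c, hR₀u, -, -, -⟩ := exists_frame hgen D hPg hbase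
  have hroot : ∀ (i j : Fin 3) (hij : i ≠ j) (y : F),
      rootW sT cT i j (eT (Multiplicative.ofAdd y)) = Matrix.SpecialLinearGroup.transvection hij y :=
    fun i j hij y => rootW_eT hij y
  have hgenT : Subgroup.closure (Set.range ![u₀, h₀, sT, cT]) = ⊤ := by
    refine CfsgLib.Linear.SL_eq_top_of_transvection_mem _ fun i j hij y => ?_
    set H := Subgroup.closure (Set.range ![u₀, h₀, sT, cT])
    have hm : ∀ n, ![u₀, h₀, sT, cT] n ∈ H := fun n => Subgroup.subset_closure ⟨n, rfl⟩
    have hu : u₀ ∈ H := hm 0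
    have hs : sT ∈ H := hm 2
    have hc : cT ∈ H := hm 3
    have hh : h₀ ∈ H := hm 1
    have he : eT (Multiplicative.ofAdd y) ∈ H := by
      rw [← aeval_polyW D y, ← hevT]
      refine Subgroup.list_prod_mem _ fun z hz => ?_
      obtain ⟨l, -, rfl⟩ := List.mem_map.1 hz
      have ha := H.mul_mem (H.mul_mem hc hh) (H.inv_mem hc)
      exact H.zpow_mem (H.mul_mem (H.mul_mem (H.pow_mem ha _) hu) (H.inv_mem (H.pow_mem ha _))) _
    rw [← hroot i j hij y]
    have hW : wordW cT sT i j ∈ H := by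
      unfold wordW
      split_ifs
      exacts [H.pow_mem hc _, H.mul_mem (H.pow_mem hc _) hs]
    exact H.mul_mem (H.mul_mem hW he) (H.inv_mem hW)
  set vF : Fin 4 → FreeGroup (Fin 4) := FreeGroup.of with hvF
  set base := baseW p k m small D.M Pg (vF 0) (vF 1) (vF 2) (vF 3) with hbaseF
  have hbase_len : base.length = 11 := by simp [hbaseF, baseW]
  have hcore : ∀ (G : Type) [Group G] (v : Fin 4 → G), Subgroup.closure (Set.range v) = ⊤ →
      (∀ z ∈ baseW p k m small D.M Pg (v 0) (v 1) (v 2) (v 3), z = 1) →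
      ∃ R : Frame F G, R.w = w ∧ R.h = v 1 ∧ R.s = v 2 ∧ R.c = v 3 ∧
        R.Φ (Multiplicative.ofAdd 1) = v 0 ∧
        Subgroup.closure (gensAll R.x) = ⊤ := by
    intro G _ v hv hb
    obtain ⟨R, e1, e2, e3, e4, e5, hcm, h012, hs⟩ := exists_frame hgen D hPg hb
    refine ⟨R, e1, e2, e3, e4, e5, R.closure_roots ?_ ?_ m ?_ ?_⟩
    · rw [e2, e4]; exact hcm
    · rw [e2, e4]; exact h012
    · rw [e3, e4, e2]; exact hs
    · rw [R.x_zero_one, e5, e2, e3, e4, ← hv]
      congr 1
      ext z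
      simp [Set.mem_range, Fin.exists_fin_succ, eq_comm]
  have hrootR : ∀ {G : Type} [Group G] (R : Frame F G) (i j : Fin 3) (y : F),
      R.x i j y = rootW R.s R.c i j (R.Φ (Multiplicative.ofAdd y)) := fun R i j y => rfl
  by_cases hp2 : p = 2
  · subst hp2
    set Pr : ℕ → ℤ[X] := fun r => (D.surj ((w : F) ^ r)).choose with hPr
    have hPr' : ∀ r, aeval (w : F)⁻¹ (Pr r) = (w : F) ^ r := fun r => aeval_polyW D _
    set L := base ++ (List.range 2).map (fun r => cosetW (vF 0) (vF 1) (vF 2) (vF 3) (Pr r)) with hL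
    obtain ⟨rels, hc, hiso⟩ := presented_iso_four ![u₀, h₀, sT, cT] hgenT L (by
      refine fun z hz => ?_
      have hz' := List.mem_map_of_mem (f := FreeGroup.lift ![u₀, h₀, sT, cT]) hz
      rw [hL, List.map_append, hbaseF, hvF, lift_baseW, lift_cosetW', List.mem_append] at hz'
      rcases hz' with hz' | hz'
      · exact hbase _ (by simpa using hz')
      · obtain ⟨r, -, hr⟩ := List.mem_map.1 hz'
        rw [← hr]
        simp only [cosetW, Matrix.cons_val, mul_inv_eq_one, hevT, hPr']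
        rw [hroot 1 2 (by decide), hroot 0 2 (by decide), hu₀]
        apply Subtype.ext
        simp only [Matrix.SpecialLinearGroup.coe_mul, coe_eT, coe_transvectionT]
        ext i j
        fin_cases i <;> fin_cases j <;>
          simp [Matrix.mul_apply, Fin.sum_univ_three, Matrix.transvection, Matrix.single]) (fun G _ v hv hrel => by
      have hall : ∀ z ∈ L.map (FreeGroup.lift v), z = 1 := by
        intro z hz
        obtain ⟨r, hr, rfl⟩ := List.mem_map.1 hz
        exact hrel r hr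
      rw [hL, List.map_append, hbaseF, hvF, lift_baseW, lift_cosetW'] at hall
      obtain ⟨R, e1, e2, e3, e4, e5, hcl⟩ := hcore G v hv fun z hz => hall z (List.mem_append_left _ hz)
      have hev : ∀ P, ev (v 3 * v 1 * (v 3)⁻¹) (v 0) P =
          R.Φ (Multiplicative.ofAdd (aeval (w : F)⁻¹ P)) :=
        ev_of_field_hom R.Φ e5 fun y => by
          have := R.act1 y
          rwa [e1, e2, e4] at this
      have h2 : ∀ y : F, y + y = 0 := CharTwo.add_self_eq_zero
      have hz : ∀ r < 2, R.Comm1 1 ((R.w : F) ^ r) := fun r hr => by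
        have := hall _ (List.mem_append_right _ (List.mem_map.2 ⟨r, List.mem_range.2 hr, rfl⟩))
        simp only [cosetW, mul_inv_eq_one, hev, hPr'] at this
        show R.x 0 1 1 * R.x 1 2 _ = R.x 0 2 (1 * _) * R.x 1 2 _ * R.x 0 1 1
        rw [one_mul, R.x_zero_one, e5, hrootR R, hrootR R, e1, e3, e4]
        exact this
      exact card_le_SL (by norm_num) (R.sys_of_two_cosets (twoCosetSpan hF (e1 ▸ hgen)) h2 hz) hcl)
    refine ⟨rels, hc.trans ?_, hiso⟩
    simp [hL, hbase_len]
  · set L := base ++ oddW' (vF 0) (vF 2) (vF 3) with hL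
    obtain ⟨rels, hc, hiso⟩ := presented_iso_four ![u₀, h₀, sT, cT] hgenT L (by
      refine fun z hz => ?_
      have hz' := List.mem_map_of_mem (f := FreeGroup.lift ![u₀, h₀, sT, cT]) hz
      rw [hL, List.map_append, hbaseF, hvF, lift_baseW, lift_oddW', List.mem_append] at hz'
      rcases hz' with hz' | hz'
      · exact hbase _ (by simpa using hz')
      · revert hz'
        generalize FreeGroup.lift ![u₀, h₀, sT, cT] z = g
        revert g
        simp only [oddW', List.forall_mem_cons, List.not_mem_nil, false_imp_iff, implies_true, and_true,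
          Matrix.cons_val, mul_inv_eq_one, hu₀]
        refine ⟨?_, ?_⟩
        all_goals
          simp only [hroot _ _ (show (0 : Fin 3) ≠ 2 by decide),
            hroot _ _ (show (1 : Fin 3) ≠ 2 by decide)]
          apply Subtype.ext
          simp only [Matrix.SpecialLinearGroup.coe_mul, coe_eT, coe_transvectionT]
          ext i j
          fin_cases i <;> fin_cases j <;>
            simp [Matrix.mul_apply, Fin.sum_univ_three, Matrix.transvection, Matrix.single]) (fun G _ v hv hrel => by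
      have hall : ∀ z ∈ L.map (FreeGroup.lift v), z = 1 := by
        intro z hz
        obtain ⟨r, hr, rfl⟩ := List.mem_map.1 hz
        exact hrel r hr
      rw [hL, List.map_append, hbaseF, hvF, lift_baseW, lift_oddW'] at hall
      obtain ⟨R, e1, e2, e3, e4, e5, hcl⟩ := hcore G v hv fun z hz => hall z (List.mem_append_left _ hz)
      have hodd : ∀ z ∈ oddW' (v 0) (v 2) (v 3), z = 1 := fun z hz => hall z (List.mem_append_right _ hz)
      simp only [oddW', List.forall_mem_cons, List.not_mem_nil, false_imp_iff, implies_true, and_true,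
        mul_inv_eq_one] at hodd
      rw [← e5, ← e3, ← e4] at hodd
      have hspan := cubeSpan hp2 hF hgen
      have hrow := R.row01 hspan (by
        rw [R.x_zero_one]
        exact hodd.1)
      exact card_le_SL (by norm_num) (R.sys_of_row hrow (R.comm1_of_row_span hspan hrow (by
        show R.x 0 1 1 * R.x 1 2 1 = R.x 0 2 (1 * 1) * R.x 1 2 1 * R.x 0 1 1
        rw [one_mul]
        rw [R.x_zero_one]
        exact hodd.2))) hcl)
    refine ⟨rels, hc.trans ?_, hiso⟩
    simp [hL, hbase_len, oddW']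

end CfsgLib.PresentSL3
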